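import Cfsg.Agent.Lib.RootInvol.OrderThree

/-!
# Braid relations between three root involutions
-/

set_option autoImplicit false

namespace Cfsg.Lib.RootInvol

open Cfsg

section Alg

variable {G : Type*} [Group G]

theorem sq_mul (a b : G) : (a * b) ^ 2 = a * b * a * b := by rw [pow_two, ← mul_assoc]

theorem eq_inv_of_sq {a : G} (ha : a * a = 1) : a⁻¹ = a := inv_eq_of_mul_eq_one_right ha

theorem sq_symm {a b : G} (ha : a * a = 1) (hb : b * b = 1) (h : (a * b) ^ 4 = 1) :
    (a * b) ^ 2 = (b * a) ^ 2 := by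
  rw [show (4 : ℕ) = 2 + 2 from rfl, pow_add] at h
  rw [← inv_eq_of_mul_eq_one_right h, ← inv_pow, mul_inv_rev, eq_inv_of_sq ha, eq_inv_of_sq hb]

theorem sq_commute_right {a b : G} (ha : a * a = 1) (hb : b * b = 1) (h : (a * b) ^ 4 = 1) :
    Commute ((a * b) ^ 2) b := by
  show (a * b) ^ 2 * b = b * (a * b) ^ 2
  conv_rhs => rw [sq_symm ha hb h, sq_mul]
  rw [sq_mul, mul_assoc (a * b * a), hb, mul_one]
  simp only [← mul_assoc, hb, one_mul]

theorem sq_commute_left {a b : G} (ha : a * a = 1) (hb : b * b = 1) (h : (a * b) ^ 4 = 1) :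
    Commute ((a * b) ^ 2) a := by
  show (a * b) ^ 2 * a = a * (a * b) ^ 2
  conv_lhs => rw [sq_symm ha hb h, sq_mul, mul_assoc (b * a * b), ha, mul_one]
  rw [sq_mul]
  simp only [← mul_assoc, ha, one_mul]

theorem sq_sq {a b : G} (h : (a * b) ^ 4 = 1) : (a * b) ^ 2 * (a * b) ^ 2 = 1 := by
  rw [← pow_add]; exact h

theorem mul_sq_left {a b : G} (ha : a * a = 1) : a * (a * b) ^ 2 = b * a * b := by
  rw [sq_mul]; simp only [← mul_assoc, ha, one_mul]

theorem sq_mul_right {a b : G} (hb : b * b = 1) : (a * b) ^ 2 * b = a * b * a := by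
  rw [sq_mul, mul_assoc (a * b * a), hb, mul_one]

/-- The braid relation: `x` commutes with `d * c`. -/
theorem braid {y x d : G} (hy : y * y = 1) (hx : x * x = 1) (hd : d * d = 1) (hyx : orderOf (y * x) = 3)
    (hdy : d * y = y * d) (hdx : (d * x) ^ 4 = 1) (hgy : ((d * x) ^ 2 * y) ^ 4 = 1) :
    x * (d * ((d * x) ^ 2 * y) ^ 2) * x = d * ((d * x) ^ 2 * y) ^ 2 ∧
      Commute d (((d * x) ^ 2 * y) ^ 2) ∧ x * ((d * x) ^ 2 * y) ^ 2 * x =
        ((d * x) ^ 2 * y) ^ 2 * (d * x) ^ 2 ∧
      (d * x) ^ 2 * ((d * x) ^ 2 * y) ^ 2 = ((d * x) ^ 2 * y) ^ 2 * (d * x) ^ 2 := by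
  set g := (d * x) ^ 2 with hgdef
  have hgg : g * g = 1 := sq_sq hdx
  have hgd : Commute g d := sq_commute_left hd hx hdx
  have hgx : Commute g x := sq_commute_right hd hx hdx
  set c := (g * y) ^ 2 with hcdef
  have hcg : Commute c g := sq_commute_left hgg hy hgy
  have hcy : Commute c y := sq_commute_right hgg hy hgy
  have hdc : Commute d c := by
    have h1 : Commute d (g * y) := hgd.symm.mul_right hdy
    exact h1.pow_right 2
  have hgdxd : g * x = d * x * d := sq_mul_right hx
  have hbr : y * x * y = x * y * x := by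
    have h1 : (y * x) ^ 3 = 1 := by rw [← hyx, pow_orderOf_eq_one]
    calc y * x * y = (y * x) ^ 3 * (x * y * x)⁻¹ * 1 := by
          simp only [pow_succ, pow_zero, one_mul]; group
      _ = x * y * x := by
          rw [h1, one_mul, mul_one, mul_inv_rev, mul_inv_rev, eq_inv_of_sq hy, eq_inv_of_sq hx, mul_assoc]
  have e1 : y * g * y = c * g := by
    rw [hcg.eq]
    exact (mul_sq_left hgg).symm
  have e2 : g * y * g = c * y := (sq_mul_right hy).symm
  -- conjugate the braid relation by `d`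
  have h2 : y * (d * x * d) * y = d * x * d * y * (d * x * d) := by
    calc y * (d * x * d) * y = y * d * x * (d * y) := by simp only [mul_assoc]
      _ = d * (y * x * y) * d := by rw [hdy, ← hdy]; rw [hdy]; simp only [mul_assoc]; rw [← mul_assoc y d, ← hdy]; simp only [mul_assoc]
      _ = d * (x * y * x) * d := by rw [hbr]
      _ = d * x * (d * d) * y * x * d := by rw [hd, mul_one]; simp only [mul_assoc]
      _ = d * x * d * y * (d * x * d) := by
          rw [show d * x * (d * d) * y * x * d = d * x * d * (d * y) * x * d by simp only [mul_assoc], hdy]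
          simp only [mul_assoc]
  have h3 : c * g * x * (y * x) = x * c * (y * x) := by
    calc c * g * x * (y * x) = (c * g) * (x * y * x) := by simp only [mul_assoc]
      _ = y * g * y * (y * x * y) := by rw [e1, hbr]
      _ = y * (g * x) * y := by
          simp only [mul_assoc]; rw [← mul_assoc y y, hy, one_mul]
      _ = g * x * y * (g * x) := by rw [hgdxd, h2]
      _ = x * (g * y * g) * x := by nth_rewrite 1 [hgx.eq]; simp only [mul_assoc]
      _ = x * c * (y * x) := by rw [e2]; simp only [mul_assoc]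
  have h4 : c * g * x = x * c := mul_right_cancel h3
  have h5 : x * c * x = c * g := by rw [← h4, mul_assoc, hx, mul_one]
  have h6 : x * d * x = d * g := (mul_sq_left hd).symm
  refine ⟨?_, hdc, h5, hcg.symm⟩
  calc x * (d * c) * x = x * d * x * (x * c * x) := by
        simp only [mul_assoc]; rw [← mul_assoc x x (c * x), hx, one_mul]
    _ = d * g * (c * g) := by rw [h6, h5]
    _ = d * c * (g * g) := by rw [mul_assoc d g, ← mul_assoc g c g, ← hcg.eq, mul_assoc c g g, ← mul_assoc]
    _ = d * c := by rw [hgg, mul_one]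

/-- The cube of `a * d * x`. -/
theorem braid_cube {a x d : G} (ha : a * a = 1) (hx : x * x = 1) (hd : d * d = 1) (hax : orderOf (a * x) = 3)
    (hda : d * a = a * d) (hdx : (d * x) ^ 4 = 1) (hga : ((d * x) ^ 2 * a) ^ 4 = 1) :
    (d * a * x) ^ 3 = d * ((d * x) ^ 2 * a) ^ 2 := by
  obtain ⟨-, hdc, -, hgc⟩ := braid ha hx hd hax hda hdx hga
  set g := (d * x) ^ 2 with hgdef
  set c := (g * a) ^ 2 with hcdef
  have hgg : g * g = 1 := sq_sq hdx
  have hgd : Commute g d := sq_commute_left hd hx hdx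
  have hgx : Commute g x := sq_commute_right hd hx hdx
  have h6 : x * d * x = d * g := (mul_sq_left hd).symm
  have e1 : a * g * a = g * c := (mul_sq_left hgg).symm
  set ρ := a * x with hρ
  have hρ3 : ρ ^ 3 = 1 := by rw [← hax, pow_orderOf_eq_one]
  have hρi : ρ⁻¹ = x * a := by rw [hρ, mul_inv_rev, eq_inv_of_sq ha, eq_inv_of_sq hx]
  have h7 : d * a * x = ρ * (d * g) := by
    rw [← h6, hρ, hda]; simp only [mul_assoc]; rw [← mul_assoc x x, hx, one_mul]
  have h8 : ρ * (d * g) * ρ⁻¹ = d := by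
    rw [hρi, hρ]
    calc a * x * (d * g) * (x * a) = a * (x * (d * g) * x) * a := by simp only [mul_assoc]
      _ = a * (x * d * x * g) * a := by
          rw [mul_assoc x (d * g), mul_assoc d g x, hgx.eq, ← mul_assoc d x g, ← mul_assoc x (d * x), ← mul_assoc x d x]
      _ = a * d * a := by rw [h6, mul_assoc d g g, hgg, mul_one]
      _ = d := by rw [← hda, mul_assoc, ha, mul_one]
  have h9 : ρ * d * ρ⁻¹ = d * (g * c) := by
    rw [hρi, hρ]
    calc a * x * d * (x * a) = a * (x * d * x) * a := by simp only [mul_assoc]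
      _ = a * d * (g * a) := by rw [h6]; simp only [mul_assoc]
      _ = d * (a * g * a) := by rw [← hda]; simp only [mul_assoc]
      _ = d * (g * c) := by rw [e1]
  have h10 : (ρ * (d * g)) ^ 3 =
      (ρ * (d * g) * ρ⁻¹) * (ρ * (ρ * (d * g) * ρ⁻¹) * ρ⁻¹) * (ρ ^ 3 * (d * g)) := by
    simp only [pow_succ, pow_zero, one_mul]; group
  rw [h7, h10, h8, h9, hρ3, one_mul]
  calc d * (d * (g * c)) * (d * g) = g * c * d * g := by
        rw [← mul_assoc d d, hd, one_mul]; simp only [mul_assoc]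
    _ = d * g * (g * c) := by
        rw [← ((hgd.symm.mul_right hdc).eq), mul_assoc d (g * c) g, mul_assoc g c g, ← hgc]
        simp only [mul_assoc]
    _ = d * c := by rw [mul_assoc d g, ← mul_assoc g g, hgg, one_mul]

end Alg

variable {G : Type*} [Group G] {D : Set G}

theorem sq_mem_of_four (hD : IsRootInvolutionSet D) {a b : G} (ha : a ∈ D) (hb : b ∈ D)
    (h : orderOf (a * b) = 4) : (a * b) ^ 2 ∈ D := by
  rcases hD.pair a ha b hb with h1 | h1 | h1
  · exfalso
    have h3 : Commute a b := h1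
    have h4 : (a * b) ^ 2 = 1 := by
      rw [h3.mul_pow, pow_two, pow_two, mul_self_of_mem hD ha, mul_self_of_mem hD hb, one_mul]
    have := Nat.le_of_dvd two_pos (orderOf_dvd_of_pow_eq_one h4)
    omega
  · rw [h] at h1
    exact absurd h1 (by decide)
  · exact h1.2

theorem pow_four_of_four {a b : G} (h : orderOf (a * b) = 4) : (a * b) ^ 4 = 1 := by
  rw [← h, pow_orderOf_eq_one]

theorem four_of_not_commute (hD : IsRootInvolutionSet D) {a b : G} (ha : a ∈ D) (hb : b ∈ D)
    (hne : a * b ≠ b * a) (hodd : ¬ OddAdj D a b) : orderOf (a * b) = 4 ∧ (a * b) ^ 2 ∈ D := by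
  rcases hD.pair a ha b hb with h1 | h1 | h1
  · exact absurd h1 hne
  · exact absurd ⟨ha, hb, fun h => hne (by rw [h]), h1⟩ hodd
  · exact h1

theorem not_commute_of_four (hD : IsRootInvolutionSet D) {a b : G} (ha : a ∈ D) (hb : b ∈ D)
    (h : orderOf (a * b) = 4) : a * b ≠ b * a := by
  intro h1
  have h3 : Commute a b := h1
  have h4 : (a * b) ^ 2 = 1 := by
    rw [h3.mul_pow, pow_two, pow_two, mul_self_of_mem hD ha, mul_self_of_mem hD hb, one_mul]
  have := Nat.le_of_dvd two_pos (orderOf_dvd_of_pow_eq_one h4)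
  omega

/-- The root lemma: a member with product of order three with `a` and centralizing a given `h`. -/
theorem exists_order_three_commuting [Finite G] (hD : IsRootInvolutionSet D)
    (hc : IsConnectedSet (OddAdj D) D) {a h : G} (ha : a ∈ D) (hhD : h ∈ D) (h4 : orderOf (a * h) = 4) :
    ∃ x ∈ D, x * h = h * x ∧ orderOf (a * x) = 3 ∧ orderOf ((a * h) ^ 2 * x) = 4 ∧
      ((a * h) ^ 2 * x) ^ 2 = h := by
  obtain ⟨b, hsq⟩ : ∃ b, (a * h) ^ 2 = b := ⟨_, rfl⟩
  rw [hsq]
  have hbD : b ∈ D := hsq ▸ sq_mem_of_four hD ha hhD h4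
  have ha2 := mul_self_of_mem hD ha
  have hh2 := mul_self_of_mem hD hhD
  have hba : b * a = a * b := by
    rw [← hsq]; exact (sq_commute_left ha2 hh2 (pow_four_of_four h4)).eq
  have hbaD : b * a ∈ D := by
    rw [← hsq, sq_mul, show a * h * a * h * a = (a * h) * a * (a * h)⁻¹ by
      rw [mul_inv_rev, inv_of_mem hD ha, inv_of_mem hD hhD]; simp only [mul_assoc]]
    exact hD.conj_mem a ha _
  have hex : ∀ p q : G, p ∈ D → q ∈ D → commutingMembers D p ≠ commutingMembers D q →
      ∃ y, OddAdj D p y ∧ ¬ OddAdj D q y := by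
    intro p q hp hq hpq
    by_contra hh
    push Not at hh
    have h1 : oddPartners D p = oddPartners D q := by
      refine Set.eq_of_subset_of_ncard_le
        (fun x hx => (mem_oddPartners_iff hq).2 (hh x ((mem_oddPartners_iff hp).1 hx))) ?_ (Set.toFinite _)
      obtain ⟨g, hg⟩ := exists_conj_of_connected hD hc hq hp
      rw [hg, ncard_oddPartners_conj hD]
    exact hpq ((commutingMembers_subset_of_oddPartners_eq hD hc hp hq h1).antisymm
      (commutingMembers_subset_of_oddPartners_eq hD hc hq hp h1.symm))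
  have hah : a * h ≠ h * a := not_commute_of_four hD ha hhD h4
  have hc1 : Commute h (a * h * a) := commute_conj_of_pow_four hD ha hhD (pow_four_of_four h4)
  have hb' : b = a * h * a * h := by rw [← hsq, sq_mul]
  have hbh : Commute b h := by rw [hb']; exact hc1.symm.mul_left (Commute.refl h)
  have hbh' : b * h = a * h * a := by rw [hb', mul_assoc, hh2, mul_one]
  have hahD : a * h * a ∈ D := by simpa [inv_of_mem hD ha] using hD.conj_mem h hhD a
  have hneh : h ≠ b := fun e => hah (by rw [e, ← hba])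
  obtain ⟨z, hz1, hz2⟩ := hex b h hbD hhD (fun e => hah
    ((Set.ext_iff.1 e a).1 ⟨ha, hba.symm⟩).2)
  obtain ⟨x, hxD, hx4, hxsq⟩ := exists_square_root hD hhD hneh hbh.eq.symm
    (by rw [← hbh.eq, hbh']; exact hahD) hz1 hz2
  have hx2 := mul_self_of_mem hD hxD
  have hc2 : Commute x (b * x * b) := commute_conj_of_pow_four hD hbD hxD (pow_four_of_four hx4)
  have hh' : h = b * x * b * x := by rw [← hxsq, sq_mul]
  have hxh : Commute x h := by rw [hh']; exact hc2.mul_right (Commute.refl x)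
  refine ⟨x, hxD, hxh.eq, ?_, hx4, hxsq⟩
  have hxb : x * b * x = b * h := by
    rw [hh']; simp only [mul_assoc]; rw [mul_self_cancel hD hbD]
  set u := a * x with hu
  have huinv : u⁻¹ = x * a := by rw [hu, mul_inv_rev, inv_of_mem hD ha, inv_of_mem hD hxD]
  have e1 : u * b * u⁻¹ = h := by
    rw [huinv, hu]
    calc a * x * b * (x * a) = a * (x * b * x) * a := by simp only [mul_assoc]
      _ = h := by rw [hxb, hbh']; simp only [mul_assoc, ha2, mul_one]; rw [mul_self_cancel hD ha]
  have e2 : u * h * u⁻¹ = b * h := by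
    rw [huinv, hu, hbh']
    calc a * x * h * (x * a) = a * (x * h) * x * a := by simp only [mul_assoc]
      _ = a * h * a := by rw [hxh.eq]; simp only [mul_assoc]; rw [mul_self_cancel hD hxD]
  have e3 : u ^ 2 * b * (u ^ 2)⁻¹ = b * h := by
    rw [pow_two, show u * u * b * (u * u)⁻¹ = u * (u * b * u⁻¹) * u⁻¹ by group, e1, e2]
  have e4 : u ^ 3 * b * (u ^ 3)⁻¹ = b := by
    rw [show u ^ 3 * b * (u ^ 3)⁻¹ = u * (u ^ 2 * b * (u ^ 2)⁻¹) * u⁻¹ by group, e3, ← conj_mul, e1, e2,
      ← mul_assoc, ← hbh.eq, mul_assoc, hh2, mul_one]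
  have hne1 : ¬ orderOf u ∣ 4 := by
    intro hd
    have h1 : u ^ 4 = 1 := orderOf_dvd_iff_pow_eq_one.1 hd
    have h2 : u * b * u⁻¹ = b := by
      conv_lhs => rw [← e4]
      rw [show u * (u ^ 3 * b * (u ^ 3)⁻¹) * u⁻¹ = u ^ 4 * b * (u ^ 4)⁻¹ by group, h1, one_mul, inv_one, mul_one]
    exact hneh (e1.symm.trans h2)
  have hodd : Odd (orderOf u) := by
    rcases hD.pair a ha x hxD with h1 | h1 | ⟨h1, -⟩
    · refine absurd (orderOf_dvd_of_pow_eq_one ?_) hne1
      have h3 : Commute a x := h1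
      rw [hu, h3.mul_pow, show (4 : ℕ) = 2 * 2 from rfl, pow_mul, pow_mul, pow_two a, pow_two x, ha2, hx2,
        one_pow, one_mul]
    · exact h1
    · exact absurd (by rw [hu, h1]) hne1
  set r := u ^ 3 * a * (u ^ 3)⁻¹ with hr
  have hrb : b * r = r * b := by
    have h1 : Commute (u ^ 3) b := by
      show u ^ 3 * b = b * u ^ 3
      conv_rhs => rw [← e4]
      rw [inv_mul_cancel_right]
    exact ((h1.symm.mul_right (hba : Commute b a)).mul_right h1.symm.inv_right).eq
  have hua : a * u ^ 3 * a⁻¹ = (u ^ 3)⁻¹ := by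
    rw [← conj_pow, ← inv_pow, huinv, hu, inv_of_mem hD ha]
    congr 1
    rw [← mul_assoc a a x, ha2, one_mul]
  have har : a * r = ((u ^ 3) ^ 2)⁻¹ := by
    rw [hr, pow_two, mul_inv_rev, show a * (u ^ 3 * a * (u ^ 3)⁻¹) = a * u ^ 3 * a * (u ^ 3)⁻¹ by
      simp only [mul_assoc]]
    conv_lhs => rw [show a * u ^ 3 * a = a * u ^ 3 * a⁻¹ by rw [inv_of_mem hD ha], hua]
  have hreq : r = a := by
    by_contra hra
    refine not_exists_commuting hD hbD hba.symm hbaD ⟨ha, hD.conj_mem a ha _, fun e => hra e.symm, ?_⟩ hrb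
    rw [har, orderOf_inv, ← pow_mul]
    exact hodd.of_dvd_nat (orderOf_pow_dvd _)
  have h6 : u ^ 6 = 1 := by
    rw [hreq, ha2, eq_comm, inv_eq_one, ← pow_mul] at har
    exact har
  have h3 : orderOf u ∣ 3 :=
    (Nat.Coprime.dvd_mul_right (n := 2) hodd.coprime_two_right).1 (orderOf_dvd_of_pow_eq_one (by
      rw [show 3 * 2 = 6 from rfl]; exact h6))
  rcases (Nat.dvd_prime Nat.prime_three).1 h3 with h5 | h5
  · exact absurd (by rw [h5]; norm_num) hne1
  · exact h5

/-- For `d` with `d * a` in `D` and four with `x`, the element `d` is the square of `(d * x) ^ 2 * a`. -/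
theorem natural_eq (hD : IsRootInvolutionSet D) {a x d : G} (ha : a ∈ D) (hx : x ∈ D) (hd : d ∈ D)
    (hda : d * a = a * d) (hdaD : d * a ∈ D) (hax : orderOf (a * x) = 3) (hdx : orderOf (d * x) = 4)
    (hga : ((d * x) ^ 2 * a) ^ 4 = 1) : d = ((d * x) ^ 2 * a) ^ 2 := by
  have ha2 := mul_self_of_mem hD ha
  have hx2 := mul_self_of_mem hD hx
  have hd2 := mul_self_of_mem hD hd
  have hne : a ≠ d := fun h => by rw [h, hdx] at hax; omega
  have hne' : a ≠ x := fun h => by
    rw [h, hx2, orderOf_one] at hax; omega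
  have hodd : Odd (orderOf (d * a * x)) := by
    rcases edge_of_pair hD hd ha hda.symm hne hdaD ⟨ha, hx, hne', by rw [hax]; decide⟩ with h1 | h1
    · have := (oddAdj_symm hD h1).2.2.2
      rw [hdx] at this
      exact absurd this (by decide)
    · exact (oddAdj_symm hD h1).2.2.2
  have hcube := braid_cube ha2 hx2 hd2 hax hda (pow_four_of_four hdx) hga
  obtain ⟨-, hdc, -, -⟩ := braid ha2 hx2 hd2 hax hda (pow_four_of_four hdx) hga
  set c := ((d * x) ^ 2 * a) ^ 2 with hcdef
  have hc2 : c * c = 1 := by rw [hcdef, ← pow_add]; exact hga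
  have h2 : (d * c) * (d * c) = 1 := by
    rw [(hdc.symm.mul_mul_mul_comm d c :), hd2, hc2, one_mul]
  have h6 : (d * a * x) ^ 6 = 1 := by rw [show 6 = 3 * 2 from rfl, pow_mul, hcube, pow_two, h2]
  have h3 : (d * a * x) ^ 3 = 1 := orderOf_dvd_iff_pow_eq_one.1
    ((Nat.Coprime.dvd_mul_right (n := 2) hodd.coprime_two_right).1 (orderOf_dvd_of_pow_eq_one (by
      rw [show 3 * 2 = 6 from rfl]; exact h6)))
  rw [hcube] at h3
  rw [← eq_inv_of_sq hd2]
  exact inv_eq_of_mul_eq_one_right h3

/-- A product partner outside the class has a partner whose commutator with it is `d`. -/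
theorem exists_partner_sq [Finite G] (hD : IsRootInvolutionSet D) (hc : IsConnectedSet (OddAdj D) D)
    {d e : G} (hd : d ∈ D) (he : e ∈ productPartners D d) (hE : e ∉ sameCommutingClass D d) :
    ∃ s ∈ productPartners D d, orderOf (e * s) = 4 ∧ (e * s) ^ 2 = d := by
  obtain ⟨⟨heD, hed, hne⟩, hedD⟩ := he
  obtain ⟨x, ⟨hxD, hdx⟩, hex⟩ := exists_fourPartner_order_three hD hc heD
    (⟨⟨hd, hed.symm, hne.symm⟩, hed ▸ hedD⟩ : d ∈ productPartners D e) fun h => hE ⟨heD, h.2.symm⟩
  have hd2 := mul_self_of_mem hD hd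
  have hx2 := mul_self_of_mem hD hxD
  have he2 := mul_self_of_mem hD heD
  have hdx4 := pow_four_of_four hdx
  set g := (d * x) ^ 2 with hgdef
  have hgD : g ∈ D := sq_mem_of_four hD hd hxD hdx
  have hgd : g * d = d * g := (sq_commute_left hd2 hx2 hdx4).eq
  have hgdD : g * d ∈ D := by
    rw [hgd, hgdef, mul_sq_left hd2]
    simpa [inv_of_mem hD hxD] using hD.conj_mem d hd x
  have hgne : g ≠ d := by
    intro h
    have h1 : x * d * x = 1 := by rw [← mul_sq_left hd2, ← hgdef, h, hd2]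
    have h3 : d = 1 := by
      calc d = x * (x * d * x) * x := by
            simp only [mul_assoc, hx2, mul_one]; rw [mul_self_cancel hD hxD]
        _ = 1 := by rw [h1, mul_one, hx2]
    have := hD.orderOf_eq d hd
    rw [h3, orderOf_one] at this
    omega
  have hge : ¬ OddAdj D e g := fun h => not_exists_commuting hD hd hed (hed ▸ hedD) h hgd.symm
  have hge4 : (g * e) ^ 4 = 1 := pow_four_of_not_oddAdj hD hgD heD fun h => hge (oddAdj_symm hD h)
  have hdsq := natural_eq hD heD hxD hd hed.symm (hed ▸ hedD) hex hdx hge4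
  have hnc : g * e ≠ e * g := by
    intro h
    have h1 : (g * e) ^ 2 = 1 := by
      have h2 : Commute g e := h
      rw [h2.mul_pow, pow_two, pow_two, mul_self_of_mem hD hgD, he2, one_mul]
    have := hD.orderOf_eq d hd
    rw [hdsq, h1, orderOf_one] at this
    omega
  have h4 := four_of_not_commute hD hgD heD hnc fun h => hge (oddAdj_symm hD h)
  refine ⟨g, ⟨⟨hgD, hgd, hgne⟩, hgdD⟩, by rw [orderOf_swap hD hgD heD]; exact h4.1, ?_⟩
  rw [sq_symm he2 (mul_self_of_mem hD hgD) (pow_four_of_not_oddAdj hD heD hgD hge)]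
  exact hdsq.symm

end Cfsg.Lib.RootInvol
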