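import Cfsg.Agent.Lib.RootInvol.RadSeries

/-!
# The subgroup generated by the isolated members has class at most two

For a class of root involutions with `E(d) = E_d ∪ {1}` the derived subgroup of `rad D d` lies
in `E(d)`.
-/

set_option autoImplicit false

namespace Cfsg.Lib.RootInvol

open Cfsg
open scoped commutatorElement

section Alg

variable {G : Type*} [Group G]

theorem commutator_eq_of_sq {a b : G} (ha : a * a = 1) (hb : b * b = 1) : ⁅a, b⁆ = a * b * a * b := by
  rw [commutatorElement_def, eq_inv_of_sq ha, eq_inv_of_sq hb]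

theorem inv_cancel' {a : G} (ha : a * a = 1) (x : G) : a * (a * x) = x := by
  rw [← mul_assoc, ha, one_mul]

theorem commute_of_conj_eq {a x : G} (ha : a * a = 1) (h : a * x * a = x) : Commute a x := by
  show a * x = x * a
  calc a * x = a * x * a * a := by rw [mul_assoc (a * x), ha, mul_one]
    _ = x * a := by rw [h]

end Alg

variable {G : Type*} [Group G] {D : Set G}

theorem ne_one_of_mem (hD : IsRootInvolutionSet D) {d : G} (hd : d ∈ D) : d ≠ 1 := by
  intro h
  have := hD.orderOf_eq d hd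
  rw [h, orderOf_one] at this
  omega

theorem conj_mem' (hD : IsRootInvolutionSet D) {a g : G} (ha : a ∈ D) (hg : g * g = 1) :
    g * a * g ∈ D := by
  have := hD.conj_mem a ha g
  rwa [eq_inv_of_sq hg] at this

theorem lower_congr {d e : G} (h : commutingMembers D d = commutingMembers D e) (k : ℕ) :
    (rad D d).lowerCentralSeries k = (rad D e).lowerCentralSeries k := by
  rw [rad_congr h]

theorem sq_partner (hD : IsRootInvolutionSet D) {d x : G} (hd : d ∈ D) (hx : x ∈ D)
    (h : orderOf (d * x) = 4) : (d * x) ^ 2 ∈ productPartners D d := by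
  have hd2 := mul_self_of_mem hD hd
  have hx2 := mul_self_of_mem hD hx
  have h4 := pow_four_of_four h
  have hg := sq_mem_of_four hD hd hx h
  have hcm : Commute ((d * x) ^ 2) d := sq_commute_left hd2 hx2 h4
  refine ⟨⟨hg, hcm.eq, fun e => ?_⟩, ?_⟩
  · have h1 : x * d * x = 1 := by rw [← mul_sq_left hd2, e, hd2]
    apply ne_one_of_mem hD hd
    calc d = x * (x * d * x) * x := by
          simp only [mul_assoc, hx2, mul_one]; rw [inv_cancel' hx2]
      _ = 1 := by rw [h1, mul_one, hx2]
  · rw [hcm.eq, mul_sq_left hd2]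
    exact conj_mem' hD hd hx2

/-- Members with different commuting sets are separated by an odd partner. -/
theorem exists_odd_not_odd [Finite G] (hD : IsRootInvolutionSet D) (hc : IsConnectedSet (OddAdj D) D)
    {p q : G} (hp : p ∈ D) (hq : q ∈ D) (hpq : commutingMembers D p ≠ commutingMembers D q) :
    ∃ y, OddAdj D p y ∧ ¬ OddAdj D q y := by
  by_contra hh
  push Not at hh
  have h1 : oddPartners D p = oddPartners D q := by
    refine Set.eq_of_subset_of_ncard_le
      (fun x hx => (mem_oddPartners_iff hq).2 (hh x ((mem_oddPartners_iff hp).1 hx))) ?_ (Set.toFinite _)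
    obtain ⟨g, hg⟩ := exists_conj_of_connected hD hc hq hp
    rw [hg, ncard_oddPartners_conj hD]
  exact hpq ((commutingMembers_subset_of_oddPartners_eq hD hc hp hq h1).antisymm
    (commutingMembers_subset_of_oddPartners_eq hD hc hq hp h1.symm))

/-- The configuration forced by an isolated member whose product with `d` is no member. -/
theorem witness [Finite G] (hD : IsRootInvolutionSet D) (hc : IsConnectedSet (OddAdj D) D)
    (hE : ClassClosed D) {d y : G} (hd : d ∈ D) (hy : Iso D d y) (hne : y ≠ d) (hyd : y * d ∉ D) :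
    ∃ g x, g ∈ productPartners D d ∧ x ∈ D ∧ orderOf (y * x) = 3 ∧ x * g = g * x ∧
      x * d * x = d * g ∧ orderOf (g * y) = 4 ∧ ⁅g, y⁆ ∈ D ∧ ⁅g, y⁆ ∉ sameCommutingSubgroup D d ∧
      x * (d * ⁅g, y⁆) * x = d * ⁅g, y⁆ := by
  have hyD := hy.1
  have hd2 := mul_self_of_mem hD hd
  have hy2 := mul_self_of_mem hD hyD
  have hC : commutingMembers D y ≠ commutingMembers D d := by
    intro h
    refine hyd (class_mul_mem hE hd hyD h.symm fun e => hne ?_).1
    rw [← eq_inv_of_sq hd2]
    exact eq_inv_of_mul_eq_one_left e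
  obtain ⟨x₀, hyx₀, hdx₀⟩ := exists_odd_not_odd hD hc hyD hd hC
  have hx₀ := hyx₀.2.1
  have hx₀2 := mul_self_of_mem hD hx₀
  have hdx₀' : d * x₀ ≠ x₀ * d := fun h => hy.2.2 x₀ hx₀ h.symm hyx₀
  obtain ⟨h40, -⟩ := four_of_not_commute hD hd hx₀ hdx₀' hdx₀
  obtain ⟨g₀, hg₀⟩ : ∃ g₀, (d * x₀) ^ 2 = g₀ := ⟨_, rfl⟩
  have hg₀p : g₀ ∈ productPartners D d := hg₀ ▸ sq_partner hD hd hx₀ h40
  have hg₀D := hg₀p.1.1
  have hg₀x₀ : Commute g₀ x₀ := hg₀ ▸ sq_commute_right hd2 hx₀2 (pow_four_of_four h40)
  have hnc₀ : y * g₀ ≠ g₀ * y := by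
    intro h
    refine not_exists_commuting hD hg₀D hg₀x₀.eq.symm ?_ (oddAdj_symm hD hyx₀) h.symm
    rw [← hg₀, sq_mul_right hx₀2]
    exact conj_mem' hD hx₀ hd2
  obtain ⟨h41, -⟩ := four_of_not_commute hD hyD hg₀D hnc₀ (hy.2.2 g₀ hg₀D hg₀p.1.2.1)
  obtain ⟨x, hxD, hxg₀, hyx, -, -⟩ := exists_order_three_commuting hD hc hyD hg₀D h41
  have hx2 := mul_self_of_mem hD hxD
  have hodd : OddAdj D y x := ⟨hyD, hxD, fun e => by rw [e, hx2, orderOf_one] at hyx; omega,
    by rw [hyx]; decide⟩
  have hdx : ¬ OddAdj D d x := fun h => not_exists_commuting hD hg₀D hg₀p.1.2.1.symm hg₀p.2 h hxg₀.symm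
  have hdx' : d * x ≠ x * d := fun h => hy.2.2 x hxD h.symm hodd
  obtain ⟨h4, -⟩ := four_of_not_commute hD hd hxD hdx' hdx
  obtain ⟨g, hg⟩ : ∃ g, (d * x) ^ 2 = g := ⟨_, rfl⟩
  have hgp : g ∈ productPartners D d := hg ▸ sq_partner hD hd hxD h4
  have hgD := hgp.1.1
  have hgx : Commute g x := hg ▸ sq_commute_right hd2 hx2 (pow_four_of_four h4)
  have hxdx : x * d * x = d * g := hg ▸ (mul_sq_left hd2).symm
  have hnc : g * y ≠ y * g := by
    intro h
    refine not_exists_commuting hD hgD hgx.eq.symm ?_ (oddAdj_symm hD hodd) h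
    rw [← hg, sq_mul_right hx2]
    exact conj_mem' hD hxD hd2
  obtain ⟨hgy, -⟩ := four_of_not_commute hD hgD hyD hnc
    fun h => hy.2.2 g hgD hgp.1.2.1 (oddAdj_symm hD h)
  have hgy4 := pow_four_of_four hgy
  have hcD : (g * y) ^ 2 ∈ D := sq_mem_of_four hD hgD hyD hgy
  obtain ⟨hb1, hb2, -, -⟩ := braid hy2 hx2 hd2 hyx hy.2.1.symm (pow_four_of_four h4) (hg.symm ▸ hgy4)
  rw [hg] at hb1 hb2
  refine ⟨g, x, hgp, hxD, hyx, hgx.eq.symm, hxdx, hgy, ?_⟩
  rw [commutator_eq_sq hD hgD hyD]
  refine ⟨hcD, fun hcE => ?_, hb1⟩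
  rcases (mem_sub_iff hE hd).1 (Subgroup.mul_mem _ (self_mem_sub hd) hcE) with h | h
  · have h1 : x * d = d * x := by
      have h2 : Commute x (d * (g * y) ^ 2) := commute_of_conj_eq hx2 hb1
      exact ((Set.ext_iff.1 h.2 x).2 ⟨hxD, h2.eq⟩).2
    exact hdx' h1.symm
  · apply hyd
    have h2 : (g * y) ^ 2 = d := by
      rw [← inv_cancel' hd2 ((g * y) ^ 2), h, mul_one]
    rw [hy.2.1, ← h2, sq_mul_right hy2]
    exact conj_mem' hD hyD (mul_self_of_mem hD hgD)

/-- At a level of the series whose successor lies in `E(d)`, all members are partners of `d`. -/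
theorem clean_of_succ [Finite G] (hD : IsRootInvolutionSet D) (hc : IsConnectedSet (OddAdj D) D)
    (hE : ClassClosed D) {k : ℕ} {d y : G} (hd : d ∈ D)
    (hT : (rad D d).lowerCentralSeries (k + 1) ≤ sameCommutingSubgroup D d)
    (hyD : y ∈ D) (hy : y ∈ (rad D d).lowerCentralSeries k) (hne : y ≠ d) : y * d ∈ D := by
  by_contra hyd
  obtain ⟨g, x, hg, -, -, -, -, -, -, hnot, -⟩ :=
    witness hD hc hE hd (iso_of_mem_rad hD (lower_le_rad d k hy) hyD) hne hyd
  exact hnot (hT (commutator_mem_lower_succ' (Subgroup.subset_closure (iso_of_partner hD hd hg)) hy))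

/-- Partners outside the class are exchanged by an element. -/
theorem exists_swap [Finite G] (hD : IsRootInvolutionSet D) (hc : IsConnectedSet (OddAdj D) D) {d e : G}
    (hd : d ∈ D) (he : e ∈ productPartners D d) (hne : e ∉ sameCommutingClass D d) :
    ∃ h : G, h * d * h⁻¹ = e ∧ h * e * h⁻¹ = d := by
  obtain ⟨s, hs, h4, hsq⟩ := exists_partner_sq hD hc hd he hne
  obtain ⟨z, hz, h4', hsq'⟩ := exists_partner_sq hD hc he.1.1
    (⟨⟨hd, he.1.2.1.symm, he.1.2.2.symm⟩, he.1.2.1 ▸ he.2⟩ : d ∈ productPartners D e)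
    fun h => hne ⟨he.1.1, h.2.symm⟩
  have hd2 := mul_self_of_mem hD hd
  have he2 := mul_self_of_mem hD he.1.1
  have hs2 := mul_self_of_mem hD hs.1.1
  have hz2 := mul_self_of_mem hD hz.1.1
  have h1 : s * e * s = e * d := by rw [← hsq, mul_sq_left he2]
  have h2 : s * d * s = d := by rw [hs.1.2.1, mul_assoc, hs2, mul_one]
  have h3 : z * d * z = d * e := by rw [← hsq', mul_sq_left hd2]
  have h5 : z * e * z = e := by rw [hz.1.2.1, mul_assoc, hz2, mul_one]
  have hi : (s * z * s)⁻¹ = s * z * s := by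
    rw [mul_inv_rev, mul_inv_rev, eq_inv_of_sq hs2, eq_inv_of_sq hz2, mul_assoc]
  refine ⟨s * z * s, ?_, ?_⟩ <;> rw [hi]
  · calc s * z * s * d * (s * z * s) = s * (z * (s * d * s) * z) * s := by simp only [mul_assoc]
      _ = s * (d * e) * s := by rw [h2, h3]
      _ = (s * d * s) * (s * e * s) := by simp only [mul_assoc]; rw [inv_cancel' hs2]
      _ = e := by rw [h1, h2, he.1.2.1, ← mul_assoc, hd2, one_mul]
  · calc s * z * s * e * (s * z * s) = s * (z * (s * e * s) * z) * s := by simp only [mul_assoc]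
      _ = s * ((z * e * z) * (z * d * z)) * s := by
          rw [h1]; simp only [mul_assoc]; rw [inv_cancel' hz2]
      _ = d := by rw [h3, h5, ← mul_assoc e d e, he.1.2.1, mul_assoc d e e, he2, mul_one, h2]

/-- Membership in the series is symmetric for partners. -/
theorem lower_symm [Finite G] (hD : IsRootInvolutionSet D) (hc : IsConnectedSet (OddAdj D) D) {d e : G}
    {k : ℕ} (hd : d ∈ D) (he : e ∈ productPartners D d) (hne : e ∉ sameCommutingClass D d)
    (hk : e ∈ (rad D d).lowerCentralSeries k) : d ∈ (rad D e).lowerCentralSeries k := by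
  obtain ⟨h, h1, h2⟩ := exists_swap hD hc hd he hne
  have := lower_conj_mem hD hk h
  rwa [h1, h2] at this

/-- The members one level below the top are partners, too. -/
theorem mid_clean [Finite G] (hD : IsRootInvolutionSet D) (hc : IsConnectedSet (OddAdj D) D)
    (hE : ClassClosed D) {m : ℕ}
    (hT : ∀ d ∈ D, (rad D d).lowerCentralSeries (m + 2) ≤ sameCommutingSubgroup D d) {d y : G}
    (hd : d ∈ D) (hyD : y ∈ D) (hy : y ∈ (rad D d).lowerCentralSeries m) (hne : y ≠ d) :
    y * d ∈ D := by
  by_contra hyd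
  have hiso := iso_of_mem_rad hD (lower_le_rad d m hy) hyD
  obtain ⟨g, x, hg, hxD, hyx, hxg, hxdx, hgy, hcD, hcE, hxv⟩ := witness hD hc hE hd hiso hne hyd
  obtain ⟨c, hcdef⟩ : ∃ c, ⁅g, y⁆ = c := ⟨_, rfl⟩
  rw [hcdef] at hcD hcE hxv
  have hgD := hg.1.1
  have hd2 := mul_self_of_mem hD hd
  have hy2 := mul_self_of_mem hD hyD
  have hx2 := mul_self_of_mem hD hxD
  have hg2 := mul_self_of_mem hD hgD
  have hc2 := mul_self_of_mem hD hcD
  have hgrad : g ∈ rad D d := Subgroup.subset_closure (iso_of_partner hD hd hg)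
  have hcA : c ∈ (rad D d).lowerCentralSeries (m + 1) := hcdef ▸ commutator_mem_lower_succ' hgrad hy
  have hcd : c * d = d * c := (commute_of_mem_rad (lower_le_rad d _ hcA)).eq
  have hcne : c ≠ d := fun e => hcE (by rw [e]; exact self_mem_sub hd)
  have hcdD : c * d ∈ D := clean_of_succ hD hc hE hd (hT d hd) hcD hcA hcne
  have hcp : c ∈ productPartners D d := ⟨⟨hcD, hcd, hcne⟩, hcdD⟩
  have hccl : c ∉ sameCommutingClass D d := fun h => hcE (class_mem_sub h.1 h.2)
  obtain ⟨s, hs, hcs, hsq⟩ := exists_partner_sq hD hc hd hcp hccl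
  have hsD := hs.1.1
  have hs2 := mul_self_of_mem hD hsD
  have hsrad : s ∈ rad D d := Subgroup.subset_closure (iso_of_partner hD hd hs)
  have hdA : d ∈ (rad D d).lowerCentralSeries (m + 1) := by
    have h1 := (rad D d).lowerCentralSeries_antitone (Nat.le_succ _) (commutator_mem_lower_succ hcA hsrad)
    rwa [commutator_eq_sq hD hcD hsD, hsq] at h1
  have hscs : s * c * s = c * d := by rw [← hsq, mul_sq_left hc2]
  have hsds : s * d * s = d := by rw [hs.1.2.1, mul_assoc, hs2, mul_one]
  obtain ⟨v, hvdef⟩ : ∃ v, d * c = v := ⟨_, rfl⟩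
  rw [hvdef] at hxv
  have hvD : v ∈ D := by rw [← hvdef, ← hcd]; exact hcdD
  have hvd : v * d = c := by rw [← hvdef, mul_assoc, hcd, inv_cancel' hd2]
  have hvA : v ∈ (rad D d).lowerCentralSeries (m + 1) := hvdef ▸ Subgroup.mul_mem _ hdA hcA
  have hvp : v ∈ productPartners D d := by
    refine ⟨⟨hvD, (commute_of_mem_rad (lower_le_rad d _ hvA)).eq, fun e => ?_⟩, hvd ▸ hcD⟩
    rw [e, hd2] at hvd
    exact ne_one_of_mem hD hcD hvd.symm
  have hvcl : v ∉ sameCommutingClass D d := fun h => hcE (by
    rw [← hvd]; exact Subgroup.mul_mem _ (class_mem_sub h.1 h.2) (self_mem_sub hd))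
  have hdAv : d ∈ (rad D v).lowerCentralSeries (m + 1) := lower_symm hD hc hd hvp hvcl hvA
  have hgAv : g ∈ (rad D v).lowerCentralSeries (m + 1) := by
    have h1 := lower_conj_self hD hdAv (commute_of_conj_eq hx2 hxv).eq
    rw [eq_inv_of_sq hx2, hxdx] at h1
    have h2 := Subgroup.mul_mem _ hdAv h1
    rwa [inv_cancel' hd2] at h2
  have hsvs : s * v * s = c := by
    rw [← hvdef, show s * (d * c) * s = (s * d * s) * (s * c * s) by
      simp only [mul_assoc]; rw [inv_cancel' hs2], hsds, hscs, hcd, inv_cancel' hd2]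
  obtain ⟨g', hg'def⟩ : ∃ g', s * g * s = g' := ⟨_, rfl⟩
  have hg'A : g' ∈ (rad D c).lowerCentralSeries (m + 1) := by
    have h1 := lower_conj_mem hD hgAv s
    rwa [eq_inv_of_sq hs2, hg'def, hsvs] at h1
  have hcy : Commute c y := by
    rw [← hcdef, commutator_eq_sq hD hgD hyD]
    exact sq_commute_right hg2 hy2 (pow_four_of_four hgy)
  have hcyD : c * y ∈ D := by
    rw [← hcdef, commutator_eq_sq hD hgD hyD, sq_mul_right hy2]
    exact conj_mem' hD hyD hg2
  have hyc : y ∈ rad D c :=
    Subgroup.subset_closure (iso_of_mul_mem hD hcD hyD hcy.eq.symm (hcy.eq ▸ hcyD))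
  have hP : ⁅g', y⁆ ∈ sameCommutingSubgroup D c := hT c hcD (commutator_mem_lower_succ hg'A hyc)
  obtain ⟨r, hrdef⟩ : ∃ r, ⁅y, s⁆ = r := ⟨_, rfl⟩
  have hrA : r ∈ (rad D d).lowerCentralSeries (m + 1) := hrdef ▸ commutator_mem_lower_succ hy hsrad
  obtain ⟨ε, hεdef⟩ : ∃ ε, ⁅g, r⁆ = ε := ⟨_, rfl⟩
  have hεE : ε ∈ sameCommutingSubgroup D d := hεdef ▸ hT d hd (commutator_mem_lower_succ' hgrad hrA)
  have hεy : Commute ε y := sub_central hεE (lower_le_rad d m hy)
  have hεs : Commute ε s := sub_central hεE hsrad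
  have hPeq : ⁅g', y⁆ = c * (d * ε) := by
    have h1 : y * r = s * y * s := by
      rw [← hrdef, commutator_eq_of_sq hy2 hs2]; simp only [mul_assoc]; rw [inv_cancel' hy2]
    calc ⁅g', y⁆ = s * ⁅g, s * y * s⁆ * s := by
          rw [← hg'def, commutatorElement_def, commutatorElement_def]
          simp only [mul_inv_rev, eq_inv_of_sq hs2, mul_assoc]
          simp only [inv_cancel' hs2, hs2, mul_one]
      _ = s * (c * ε) * s := by
          rw [← h1, show ⁅g, y * r⁆ = ⁅g, y⁆ * (y * ⁅g, r⁆ * y⁻¹) by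
            simp only [commutatorElement_def]; group, hcdef, hεdef, ← hεy.eq, mul_inv_cancel_right]
      _ = (s * c * s) * ε := by rw [mul_assoc s (c * ε) s, mul_assoc c ε s, hεs.eq]; simp only [mul_assoc]
      _ = c * (d * ε) := by rw [hscs, mul_assoc]
  have hPc : ⁅g', y⁆ = c := by
    have h1 : d * ε ∈ sameCommutingSubgroup D c := by
      have h2 := Subgroup.mul_mem _ (self_mem_sub hcD) hP
      rwa [hPeq, inv_cancel' hc2] at h2
    rw [hPeq, sub_disjoint hE hd hcD (fun h => hccl ⟨hcD, h⟩)
      (Subgroup.mul_mem _ (self_mem_sub hd) hεE) h1, mul_one]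
  obtain ⟨X, hXdef⟩ : ∃ X, s * x * s = X := ⟨_, rfl⟩
  have hXD : X ∈ D := hXdef ▸ conj_mem' hD hxD hs2
  have hg'D : g' ∈ D := hg'def ▸ conj_mem' hD hgD hs2
  have hX2 := mul_self_of_mem hD hXD
  have hg'2 := mul_self_of_mem hD hg'D
  have hXc : Commute X c := by
    apply commute_of_conj_eq hX2
    rw [← hXdef, ← hsvs]
    calc s * x * s * (s * v * s) * (s * x * s) = s * (x * v * x) * s := by
          simp only [mul_assoc]; simp only [inv_cancel' hs2]
      _ = s * v * s := by rw [hxv]
  have hXg' : X * g' = g' * X := by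
    rw [← hXdef, ← hg'def]
    calc s * x * s * (s * g * s) = s * (x * g) * s := by simp only [mul_assoc]; rw [inv_cancel' hs2]
      _ = s * g * s * (s * x * s) := by rw [hxg]; simp only [mul_assoc]; rw [inv_cancel' hs2]
  have hdXd : d * X * d = X * g' := by
    have h1 : d * x * d = x * g := by
      calc d * x * d = x * (x * d * x) * d := by
            simp only [mul_assoc]; rw [inv_cancel' hx2]
        _ = x * g := by rw [hxdx, mul_assoc x, mul_assoc d g d, hg.1.2.1, inv_cancel' hd2]
    rw [← hXdef, ← hg'def]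
    calc d * (s * x * s) * d = s * (d * x * d) * s := by
          rw [show d * (s * x * s) * d = d * s * x * (s * d) by simp only [mul_assoc],
            show d * s * x * (s * d) = s * d * x * (d * s) by rw [hs.1.2.1]]
          simp only [mul_assoc]
      _ = s * x * s * (s * g * s) := by rw [h1]; simp only [mul_assoc]; rw [inv_cancel' hs2]
  have hg'y : g' * y * g' = c * y := by
    rw [← hPc, commutator_eq_of_sq hg'2 hy2, mul_assoc _ y y, hy2, mul_one]
  have hnodd : ¬ OddAdj D y X := fun h => not_exists_commuting hD hcD hcy.eq.symm hcyD h hXc.eq.symm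
  have hyX4 := pow_four_of_not_oddAdj hD hyD hXD hnodd
  obtain ⟨u, hudef⟩ : ∃ u, (y * X) ^ 2 = u := ⟨_, rfl⟩
  have hu2 : u * u = 1 := hudef ▸ sq_sq hyX4
  have huy : Commute u y := hudef ▸ sq_commute_left hy2 hX2 hyX4
  have huc : Commute u c := hudef ▸ ((hcy.symm.mul_left hXc).pow_left 2)
  have hdud : d * u * d = c * u := by
    rw [← hudef, sq_mul]
    calc d * (y * X * y * X) * d = (d * y * d) * (d * X * d) * (d * y * d) * (d * X * d) := by
          simp only [mul_assoc]; simp only [inv_cancel' hd2]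
      _ = y * X * g' * y * (X * g') := by
          rw [hdXd, ← hiso.2.1, mul_assoc y d d, hd2, mul_one]; simp only [mul_assoc]
      _ = y * X * (g' * y * g') * X := by rw [hXg']; simp only [mul_assoc]
      _ = c * (y * X * y * X) := by
          rw [hg'y]
          calc y * X * (c * y) * X = y * (X * c) * y * X := by simp only [mul_assoc]
            _ = y * c * X * y * X := by rw [hXc.eq]; simp only [mul_assoc]
            _ = c * (y * X * y * X) := by rw [← hcy.eq]; simp only [mul_assoc]
  have hudu : u * d * u = d * c := by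
    calc u * d * u = d * (d * u * d) * u := by simp only [mul_assoc]; rw [inv_cancel' hd2]
      _ = d * c := by rw [hdud, mul_assoc, mul_assoc c u u, hu2, mul_one]
  have hudc : u * v * u = d := by
    rw [← hvdef, show u * (d * c) * u = (u * d * u) * (u * c * u) by
      simp only [mul_assoc]; rw [inv_cancel' hu2], hudu, huc.eq, mul_assoc c u u, hu2, mul_one,
      mul_assoc, hc2, mul_one]
  refine hiso.2.2 (u * x * u) (conj_mem' hD hxD hu2) ?_ ?_
  · rw [← hudc]
    have h2 := conj_mul_comm (g := u) (commute_of_conj_eq hx2 hxv).eq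
    rwa [eq_inv_of_sq hu2] at h2
  · have hodd : OddAdj D y x := ⟨hyD, hxD, fun e => by rw [e, hx2, orderOf_one] at hyx; omega,
      by rw [hyx]; decide⟩
    have h2 := oddAdj_conj hD hodd u
    rwa [eq_inv_of_sq hu2, huy.eq, mul_assoc y u u, hu2, mul_one] at h2

/-- A member outside the class times an element of the class subgroup. -/
theorem clean_mul_sub (hE : ClassClosed D) {k : ℕ}
    (hclean : ∀ f ∈ D, ∀ w ∈ D, w ∈ (rad D f).lowerCentralSeries k → w ≠ f → w * f ∈ D) {d w f : G}
    (hd : d ∈ D) (hwD : w ∈ D) (hw : w ∈ (rad D d).lowerCentralSeries k)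
    (hwE : w ∉ sameCommutingSubgroup D d) (hf : f ∈ sameCommutingSubgroup D d) : w * f ∈ D := by
  rcases (mem_sub_iff hE hd).1 hf with h | h
  · exact hclean f h.1 w hwD (lower_congr h.2 k ▸ hw) fun e => hwE (e ▸ hf)
  · rwa [h, mul_one]

/-- Elements of the derived subgroup commute with the top level of the series. -/
theorem commute_one_top {d u w : G} {m : ℕ}
    (hT : (rad D d).lowerCentralSeries (m + 2) ≤ sameCommutingSubgroup D d)
    (hu : u ∈ (rad D d).lowerCentralSeries 1) (hw : w ∈ (rad D d).lowerCentralSeries (m + 1)) :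
    Commute u w := by
  have h0 : ⁅sameCommutingSubgroup D d, rad D d⁆ = ⊥ :=
    Subgroup.commutator_eq_bot_iff_le_centralizer.2 fun x hx =>
      Subgroup.mem_centralizer_iff.2 fun y hy => (sub_central hx hy).eq.symm
  have h1 : ⁅⁅(rad D d).lowerCentralSeries (m + 1), rad D d⁆, rad D d⁆ = ⊥ := by
    rw [eq_bot_iff, ← h0]
    exact Subgroup.commutator_mono hT le_rfl
  have h2 : ⁅⁅rad D d, rad D d⁆, (rad D d).lowerCentralSeries (m + 1)⁆ = ⊥ :=
    Subgroup.commutator_commutator_eq_bot_of_rotate (by rwa [Subgroup.commutator_comm (rad D d)]) h1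
  have h3 : ⁅u, w⁆ ∈ ⁅⁅rad D d, rad D d⁆, (rad D d).lowerCentralSeries (m + 1)⁆ :=
    Subgroup.commutator_mem_commutator hu hw
  rw [h2, Subgroup.mem_bot, commutatorElement_eq_one_iff_mul_comm] at h3
  exact h3

theorem braid_three {a x : G} (ha : a * a = 1) (hx : x * x = 1) (h : orderOf (a * x) = 3) :
    x * a * x = a * x * a := by
  have h1 : (a * x) ^ 3 = 1 := by rw [← h, pow_orderOf_eq_one]
  calc x * a * x = (a * x * a)⁻¹ * (a * x) ^ 3 := by
        rw [pow_succ, pow_succ, pow_one]; group
    _ = a * x * a := by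
        rw [h1, mul_one, mul_inv_rev, mul_inv_rev, eq_inv_of_sq ha, eq_inv_of_sq hx, mul_assoc]

/-- The case where `⁅a, s⁆` is outside the class. -/
theorem core_outside [Finite G] (hD : IsRootInvolutionSet D) (hc : IsConnectedSet (OddAdj D) D)
    (hE : ClassClosed D) {m : ℕ}
    (hT : ∀ d ∈ D, (rad D d).lowerCentralSeries (m + 2) ≤ sameCommutingSubgroup D d) {d a b c s X : G}
    (hd : d ∈ D) (ha : a ∈ D) (haB : a ∈ (rad D d).lowerCentralSeries m)
    (haE : a ∉ sameCommutingSubgroup D d) (hb : Iso D d b) (hab : a * b * a * b = c)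
    (hac : a * c = c * a) (hcD : c ∈ D) (hcA : c ∈ (rad D d).lowerCentralSeries (m + 1))
    (hs : Iso D d s) (hcs : c * s * c = d * s) (hsL : s ∉ (rad D d).lowerCentralSeries 1)
    (hdL : d ∈ (rad D d).lowerCentralSeries 1)
    (hX : X ∈ D) (hXs : X * s = s * X) (hcX : orderOf (c * X) = 3) (hXdX : X * d * X = d * s)
    (hp : ⁅a, s⁆ ∉ sameCommutingSubgroup D d) : False := by
  have hd2 := mul_self_of_mem hD hd
  have ha2 := mul_self_of_mem hD ha
  have hs2 := mul_self_of_mem hD hs.1
  have hc2 := mul_self_of_mem hD hcD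
  have hb2 := mul_self_of_mem hD hb.1
  have hX2 := mul_self_of_mem hD hX
  have haI := iso_of_mem_rad hD (lower_le_rad d m haB) ha
  have hsrad : s ∈ rad D d := Subgroup.subset_closure hs
  have hbrad : b ∈ rad D d := Subgroup.subset_closure hb
  obtain ⟨p, hpdef⟩ : ∃ p, ⁅a, s⁆ = p := ⟨_, rfl⟩
  have hpA : p ∈ (rad D d).lowerCentralSeries (m + 1) := hpdef ▸ commutator_mem_lower_succ haB hsrad
  rcases commutator_mem_or_eq_one hD haI hs with h | ⟨hpD, h4⟩
  · exact hp (h ▸ Subgroup.one_mem _)
  rw [hpdef] at hp hpD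
  have h44 := pow_four_of_four h4
  have hpsq : (a * s) ^ 2 = p := by rw [← hpdef, commutator_eq_sq hD ha hs.1]
  have hpas : p = a * s * a * s := by rw [← hpsq, sq_mul]
  have hps : Commute p s := hpsq ▸ sq_commute_right ha2 hs2 h44
  have hpa : Commute p a := hpsq ▸ sq_commute_left ha2 hs2 h44
  have hpd : p * d = d * p := (commute_of_mem_rad (lower_le_rad d _ hpA)).eq
  have hp2 := mul_self_of_mem hD hpD
  have hpL : p ∈ (rad D d).lowerCentralSeries 1 :=
    (rad D d).lowerCentralSeries_antitone (Nat.succ_le_succ (Nat.zero_le m)) hpA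
  have hpc : Commute p c := commute_one_top (hT d hd) hpL hcA
  have hpsD : p * s ∈ D := by
    rw [hpas, mul_assoc (a * s * a), hs2, mul_one]
    exact conj_mem' hD hs.1 ha2
  -- the conjugate of `p` by `X`
  have hXX : X * (d * s) * X = d := by
    calc X * (d * s) * X = (X * d * X) * (X * s * X) := by
          simp only [mul_assoc]; rw [inv_cancel' hX2]
      _ = d * s * s := by rw [hXdX, hXs, mul_assoc s X X, hX2, mul_one]
      _ = d := by rw [mul_assoc, hs2, mul_one]
  have hpXD : X * p * X ∈ D := conj_mem' hD hpD hX2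
  have hpXd : X * p * X * d ∈ D := by
    have h1 : c * (p * s) * c = p * (d * s) := by
      rw [← hcs, ← mul_assoc c p s, ← hpc.eq]; simp only [mul_assoc]
    have h2 := conj_mem' hD (h1 ▸ conj_mem' hD hpsD hc2) hX2
    rwa [show X * (p * (d * s)) * X = X * p * X * (X * (d * s) * X) by
      simp only [mul_assoc]; rw [inv_cancel' hX2], hXX] at h2
  have hpXc : X * p * X * d = d * (X * p * X) := by
    have h0 : p * (d * s) = d * s * p := by
      rw [← mul_assoc, hpd, mul_assoc, hps.eq, ← mul_assoc]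
    calc X * p * X * d = X * (p * (d * s)) * X := by
          rw [show X * p * X * d = X * p * X * (X * (d * s) * X) by rw [hXX]]
          simp only [mul_assoc]; rw [inv_cancel' hX2]
      _ = X * (d * s) * X * (X * p * X) := by rw [h0]; simp only [mul_assoc]; rw [inv_cancel' hX2]
      _ = d * (X * p * X) := by rw [hXX]
  have hpXrad : X * p * X ∈ rad D d :=
    Subgroup.subset_closure (iso_of_mul_mem hD hd hpXD hpXc hpXd)
  have hnodd : ¬ OddAdj D p X := fun h =>
    not_exists_commuting hD hs.1 hps.eq (hps.eq ▸ hpsD) h hXs.symm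
  have hpX4 := pow_four_of_not_oddAdj hD hpD hX hnodd
  have hm : (p * X) ^ 2 ∈ rad D d := by
    rw [sq_mul, show p * X * p * X = p * (X * p * X) by simp only [mul_assoc]]
    exact Subgroup.mul_mem _ (lower_le_rad d _ hpA) hpXrad
  have hm2 := sq_sq hpX4
  have hc''L : ((p * X) ^ 2 * c) ^ 2 ∈ (rad D d).lowerCentralSeries (m + 2) := by
    rw [sq_mul, ← commutator_eq_of_sq hm2 hc2]
    exact commutator_mem_lower_succ' hm hcA
  have hc''E := hT d hd hc''L
  have hmc4 : ((p * X) ^ 2 * c) ^ 4 = 1 := by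
    rw [show (4 : ℕ) = 2 + 2 from rfl, pow_add]
    exact sub_mul_self hD hE hd hc''E
  obtain ⟨hb1, -, -, -⟩ := braid hc2 hX2 hp2 hcX hpc.eq hpX4 hmc4
  obtain ⟨f, hfdef⟩ : ∃ f, ((p * X) ^ 2 * c) ^ 2 = f := ⟨_, rfl⟩
  rw [hfdef] at hb1 hc''E hc''L
  -- properties of `p * f` for `f` in the class subgroup
  have key : ∀ f ∈ (rad D d).lowerCentralSeries (m + 2), p * f ∈ D ∧
      p * f ∉ sameCommutingSubgroup D d ∧
      d ∈ (rad D (p * f)).lowerCentralSeries (m + 1) ∧ a ∈ rad D (p * f) := by
    intro f hfL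
    have hf := hT d hd hfL
    have hclean : ∀ f ∈ D, ∀ w ∈ D, w ∈ (rad D f).lowerCentralSeries (m + 1) → w ≠ f → w * f ∈ D :=
      fun f hf w hwD hw hne => clean_of_succ hD hc hE hf (hT f hf) hwD hw hne
    have h1 : p * f ∈ D := clean_mul_sub hE hclean hd hpD hpA hp hf
    have h2 : p * f ∉ sameCommutingSubgroup D d := fun h => hp (by
      have := Subgroup.mul_mem _ h (Subgroup.inv_mem _ hf)
      rwa [mul_inv_cancel_right] at this)
    have hfA : p * f ∈ (rad D d).lowerCentralSeries (m + 1) :=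
      Subgroup.mul_mem _ hpA ((rad D d).lowerCentralSeries_antitone (Nat.le_succ _) hfL)
    have hne : p * f ≠ d := fun e => h2 (by rw [e]; exact self_mem_sub hd)
    have hcm : p * f * d = d * (p * f) := (commute_of_mem_rad (lower_le_rad d _ hfA)).eq
    refine ⟨h1, h2, lower_symm hD hc hd ⟨⟨h1, hcm, hne⟩, hclean d hd _ h1 hfA hne⟩
      (fun h => h2 (class_mem_sub h.1 h.2)) hfA, ?_⟩
    have hfa : Commute f a := sub_central hf (lower_le_rad d m haB)
    have hfs : Commute f s := sub_central hf hsrad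
    refine Subgroup.subset_closure (iso_of_mul_mem hD h1 ha ?_ ?_)
    · exact (hpa.symm.mul_right hfa.symm).eq
    · have h3 : a * (p * f) = s * (a * f) * s := by
        rw [hpas]
        calc a * (a * s * a * s * f) = s * a * (s * f) := by
              simp only [mul_assoc]; rw [inv_cancel' ha2]
          _ = s * (a * f) * s := by rw [← hfs.eq]; simp only [mul_assoc]
      rw [h3]
      exact conj_mem' hD (clean_mul_sub hE
        (fun f hf w hwD hw hne => mid_clean hD hc hE hT hf hwD hw hne) hd ha haB haE hf) hs2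
  obtain ⟨h11, h12, hd1, ha1⟩ := key f hc''L
  have hXp1 : Commute X (p * f) := commute_of_conj_eq hX2 hb1
  have hs1 : s ∈ (rad D (p * f)).lowerCentralSeries (m + 1) := by
    have h1 := lower_conj_self hD hd1 hXp1.eq
    rw [eq_inv_of_sq hX2, hXdX] at h1
    have h2 := Subgroup.mul_mem _ hd1 h1
    rwa [inv_cancel' hd2] at h2
  have hf1 : f = 1 := by
    refine sub_disjoint hE hd h11 (fun h => h12 (class_mem_sub h11 h)) hc''E ?_
    have h1 : p ∈ sameCommutingSubgroup D (p * f) := by
      rw [← hpdef] at hs1 ha1 ⊢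
      exact hT _ (hpdef ▸ h11) (commutator_mem_lower_succ' ha1 hs1)
    have h2 := Subgroup.mul_mem _ h1 (self_mem_sub h11)
    rwa [inv_cancel' hp2] at h2
  rw [hf1, mul_one] at hs1
  -- conjugate by `b`
  obtain ⟨h, hhdef⟩ : ∃ h, ⁅p, b⁆ = h := ⟨_, rfl⟩
  have hhL : h ∈ (rad D d).lowerCentralSeries (m + 2) := hhdef ▸ commutator_mem_lower_succ hpA hbrad
  have hbpb : b * p * b = p * h := by
    rw [← hhdef, commutator_eq_of_sq hp2 hb2]; simp only [mul_assoc]; rw [inv_cancel' hp2]
  obtain ⟨h21, h22, -, ha2'⟩ := key h hhL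
  have hbs : b * s * b ∈ (rad D (p * h)).lowerCentralSeries (m + 1) := by
    have h1 := lower_conj_mem hD hs1 b
    rwa [eq_inv_of_sq hb2, hbpb] at h1
  have hcomp : ⁅a, b * s * b⁆ = d * (p * h) := by
    have hbsb2 : b * s * b * (b * s * b) = 1 := mul_self_of_mem hD (conj_mem' hD hs.1 hb2)
    have hbab : b * a * b = a * c := by
      rw [← hab]; simp only [mul_assoc]; rw [inv_cancel' ha2]
    have hca : c * a * c = a := by rw [← hac, mul_assoc, hc2, mul_one]
    have h1 : a * c * s * (a * c) * s = d * p := by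
      calc a * c * s * (a * c) * s = a * (c * s * c) * (c * a * c) * s := by
            simp only [mul_assoc]; rw [inv_cancel' hc2]
        _ = (a * d) * s * a * s := by rw [hcs, hca]; simp only [mul_assoc]
        _ = d * p := by rw [haI.2.1, hpas]; simp only [mul_assoc]
    calc ⁅a, b * s * b⁆ = b * ((b * a * b) * s * (b * a * b) * s) * b := by
          rw [commutator_eq_of_sq ha2 hbsb2]; simp only [mul_assoc]; rw [inv_cancel' hb2]
      _ = b * (d * p) * b := by rw [hbab, h1]
      _ = d * (b * p * b) := by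
          rw [← mul_assoc b d p, hb.2.1]; simp only [mul_assoc]
      _ = d * (p * h) := by rw [hbpb]
  have hdE : d ∈ sameCommutingSubgroup D (p * h) := by
    have h1 : ⁅a, b * s * b⁆ ∈ sameCommutingSubgroup D (p * h) :=
      hT _ h21 (commutator_mem_lower_succ' ha2' hbs)
    rw [hcomp] at h1
    have h2 := Subgroup.mul_mem _ h1 (self_mem_sub h21)
    rwa [mul_assoc d, mul_self_of_mem hD h21, mul_one] at h2
  rcases (mem_sub_iff hE h21).1 hdE with h1 | h1
  · exact h22 (class_mem_sub h21 h1.2.symm)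
  · exact ne_one_of_mem hD hd h1

/-- The class subgroups of all members have the same cardinality. -/
theorem natCard_sub_conj (hD : IsRootInvolutionSet D) (d g : G) :
    Nat.card ↥(sameCommutingSubgroup D (g * d * g⁻¹)) = Nat.card ↥(sameCommutingSubgroup D d) := by
  rw [← map_sub hD d g]
  exact (Nat.card_congr (Subgroup.equivMapOfInjective _ _ (MulAut.conj g).injective).toEquiv).symm

/-- The case where `⁅a, s⁆` is inside the class subgroup. -/
theorem core_inside [Finite G] (hD : IsRootInvolutionSet D) (hc : IsConnectedSet (OddAdj D) D)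
    (hE : ClassClosed D) {m : ℕ}
    (hT : ∀ d ∈ D, (rad D d).lowerCentralSeries (m + 2) ≤ sameCommutingSubgroup D d) {d a b c s X : G}
    (hd : d ∈ D) (ha : a ∈ D) (haB : a ∈ (rad D d).lowerCentralSeries m)
    (hb : Iso D d b) (hab : a * b * a * b = c)
    (hac : a * c = c * a) (hcD : c ∈ D) (hcA : c ∈ (rad D d).lowerCentralSeries (m + 1))
    (hcE : c ∉ sameCommutingSubgroup D d)
    (hs : Iso D d s) (hcs : c * s * c = d * s) (hscs : s * c * s = c * d)
    (hsL : s ∉ (rad D d).lowerCentralSeries 1) (hdL : d ∈ (rad D d).lowerCentralSeries 1)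
    (hX : X ∈ D) (hXs : X * s = s * X) (hcX : orderOf (c * X) = 3) (hXdX : X * d * X = d * s)
    (hp : ⁅a, s⁆ ∈ sameCommutingSubgroup D d) : False := by
  have hd2 := mul_self_of_mem hD hd
  have ha2 := mul_self_of_mem hD ha
  have hs2 := mul_self_of_mem hD hs.1
  have hc2 := mul_self_of_mem hD hcD
  have hb2 := mul_self_of_mem hD hb.1
  have hX2 := mul_self_of_mem hD hX
  have harad : a ∈ rad D d := lower_le_rad d m haB
  have hsrad : s ∈ rad D d := Subgroup.subset_closure hs
  have hbrad : b ∈ rad D d := Subgroup.subset_closure hb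
  have hcd : c * d = d * c := (commute_of_mem_rad (lower_le_rad d _ hcA)).eq
  have hcne : c ≠ d := fun e => hcE (by rw [e]; exact self_mem_sub hd)
  have hcdD : c * d ∈ D := hscs ▸ conj_mem' hD hcD hs2
  have hcp : c ∈ productPartners D d := ⟨⟨hcD, hcd, hcne⟩, hcdD⟩
  have hCne : commutingMembers D d ≠ commutingMembers D c := fun h => hcE (class_mem_sub hcD h)
  have hdAc : d ∈ (rad D c).lowerCentralSeries (m + 1) :=
    lower_symm hD hc hd hcp (fun h => hCne h.2) hcA
  have hsc : ¬ Commute s c := by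
    intro h
    apply ne_one_of_mem hD hd
    have h1 : c * d = c := by rw [← hscs, h.eq, mul_assoc, hs2, mul_one]
    exact mul_left_cancel (h1.trans (mul_one c).symm)
  -- the class of `c` lies in the top level for `d`
  have hEcA : ∀ e ∈ sameCommutingSubgroup D c, e ∈ (rad D d).lowerCentralSeries (m + 1) := by
    intro e he
    rcases (mem_sub_iff hE hcD).1 he with h | h
    · obtain ⟨heD, hCe⟩ := h
      have hdAe : d ∈ (rad D e).lowerCentralSeries (m + 1) := lower_congr hCe _ ▸ hdAc
      have hne : d ≠ e := fun h => hCne (by rw [hCe, ← h])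
      have hde : d * e ∈ D := clean_of_succ hD hc hE heD (hT e heD) hd hdAe hne
      exact lower_symm hD hc heD ⟨⟨hd, (commute_of_mem_rad (lower_le_rad e _ hdAe)).eq, hne⟩, hde⟩
        (fun h => hCne (h.2.symm.trans hCe.symm)) hdAe
    · rw [h]; exact Subgroup.one_mem _
  -- commutation with `s` maps the class of `c` onto the class of `d`
  obtain ⟨e, he, hep⟩ : ∃ e ∈ sameCommutingSubgroup D c, ⁅e, s⁆ = ⁅a, s⁆ := by
    let φ : ↥(sameCommutingSubgroup D c) → ↥(sameCommutingSubgroup D d) := fun e =>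
      ⟨⁅(e : G), s⁆, hT d hd (commutator_mem_lower_succ (hEcA e e.2) hsrad)⟩
    have hinj : Function.Injective φ := by
      rintro ⟨e, he⟩ ⟨e', he'⟩ h
      have h1 : ⁅e, s⁆ = ⁅e', s⁆ := congrArg Subtype.val h
      have he2 := sub_mul_self hD hE hcD he
      have he2' := sub_mul_self hD hE hcD he'
      rw [commutator_eq_of_sq he2 hs2, commutator_eq_of_sq he2' hs2] at h1
      have h2 : e * s * e = e' * s * e' := mul_right_cancel h1
      rcases (mem_sub_iff hE hcD).1 (Subgroup.mul_mem _ he' he) with h3 | h3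
      · exfalso
        apply hsc
        have h4 : s * (e' * e) = e' * e * s := by
          have h5 : e' * e * s = s * (e' * e) := by
            calc e' * e * s = e' * (e * s * e) * e := by
                  simp only [mul_assoc, he2, mul_one]
              _ = s * (e' * e) := by rw [h2]; simp only [mul_assoc]; rw [inv_cancel' he2']
          exact h5.symm
        exact ((Set.ext_iff.1 h3.2 s).2 ⟨hs.1, h4⟩).2
      · apply Subtype.ext
        show e = e'
        calc e = e' * e' * e := by rw [he2', one_mul]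
          _ = e' := by rw [mul_assoc, h3, mul_one]
    have hcard : Nat.card ↥(sameCommutingSubgroup D c) = Nat.card ↥(sameCommutingSubgroup D d) := by
      obtain ⟨g, hg⟩ := exists_conj_of_connected hD hc hd hcD
      rw [hg, natCard_sub_conj hD]
    obtain ⟨⟨e, he⟩, h⟩ := ((Nat.bijective_iff_injective_and_card φ).2 ⟨hinj, hcard⟩).2 ⟨_, hp⟩
    exact ⟨e, he, congrArg Subtype.val h⟩
  obtain ⟨p, hpdef⟩ : ∃ p, ⁅a, s⁆ = p := ⟨_, rfl⟩
  rw [hpdef] at hp hep
  have hp2 := sub_mul_self hD hE hd hp
  have he2 := sub_mul_self hD hE hcD he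
  have heA := hEcA e he
  have herad : e ∈ rad D d := lower_le_rad d _ heA
  have hbab : b * a * b = a * c := by
    rw [← hab]; simp only [mul_assoc]; rw [inv_cancel' ha2]
  have harc : a ∈ rad D c := Subgroup.subset_closure
    (iso_of_mul_mem hD hcD ha hac (hbab ▸ conj_mem' hD ha hb2))
  have hea : Commute e a := sub_central he harc
  have hec : Commute e c := sub_central he (Subgroup.subset_closure (iso_self hD hcD))
  have hsas : s * a * s = a * p := by
    rw [← hpdef, commutator_eq_of_sq ha2 hs2]; simp only [mul_assoc]; rw [inv_cancel' ha2]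
  have hses : s * e * s = e * p := by
    rw [← hep, commutator_eq_of_sq he2 hs2]; simp only [mul_assoc]; rw [inv_cancel' he2]
  obtain ⟨w, hwdef⟩ : ∃ w, a * e = w := ⟨_, rfl⟩
  have hw2 : w * w = 1 := by
    rw [← hwdef, mul_assoc, ← mul_assoc e a e, hea.eq, mul_assoc, he2, mul_one, ha2]
  have hwrad : w ∈ rad D d := hwdef ▸ Subgroup.mul_mem _ harad herad
  have hwd : Commute w d := commute_of_mem_rad hwrad
  have hwc : Commute w c := hwdef ▸ (Commute.mul_left hac hec)
  have hws : Commute w s := by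
    refine (commute_of_conj_eq hs2 ?_).symm
    rw [← hwdef]
    calc s * (a * e) * s = (s * a * s) * (s * e * s) := by
          simp only [mul_assoc]; rw [inv_cancel' hs2]
      _ = a * e := by
          rw [hsas, hses, mul_assoc a p, ← mul_assoc p e p, (sub_central hp herad).eq, mul_assoc e p p,
            hp2, mul_one]
  have hwds : Commute w (d * s) := hwd.mul_right hws
  obtain ⟨w', hw'def⟩ : ∃ w', X * w * X = w' := ⟨_, rfl⟩
  have hw'2 : w' * w' = 1 := by
    rw [← hw'def]
    calc X * w * X * (X * w * X) = X * (w * w) * X := by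
          simp only [mul_assoc]; rw [inv_cancel' hX2]
      _ = 1 := by rw [hw2, mul_one, hX2]
  have hXdsX : X * (d * s) * X = d := by
    calc X * (d * s) * X = (X * d * X) * (X * s * X) := by
          simp only [mul_assoc]; rw [inv_cancel' hX2]
      _ = d * s * s := by rw [hXdX, hXs, mul_assoc s X X, hX2, mul_one]
      _ = d := by rw [mul_assoc, hs2, mul_one]
  have hw'd : w' * d = d * w' := by
    have h1 := conj_mul_comm (g := X) hwds.eq
    rwa [eq_inv_of_sq hX2, hw'def, hXdsX] at h1
  obtain ⟨α, hαdef⟩ : ∃ α, w' * c * w' * c = α := ⟨_, rfl⟩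
  have hαA : α ∈ (rad D d).lowerCentralSeries (m + 1) := by
    have h1 := lower_conj_self hD hcA hw'd
    rw [eq_inv_of_sq hw'2] at h1
    exact hαdef ▸ Subgroup.mul_mem _ h1 hcA
  obtain ⟨f, hfdef⟩ : ∃ f, w * α = f := ⟨_, rfl⟩
  have hfrad : f ∈ rad D d := hfdef ▸ Subgroup.mul_mem _ hwrad (lower_le_rad d _ hαA)
  have hXcX := braid_three hc2 hX2 hcX
  have hXfX : X * f * X = w' * (w * (c * w' * c)) := by
    rw [← hfdef, ← hαdef]
    have h1 : X * w' * X = w := by
      rw [← hw'def]; simp only [mul_assoc, hX2, mul_one]; rw [inv_cancel' hX2]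
    calc X * (w * (w' * c * w' * c)) * X =
          (X * w * X) * (X * w' * X) * (X * c * X) * (X * w' * X) * (X * c * X) := by
          simp only [mul_assoc]; simp only [inv_cancel' hX2]
      _ = w' * w * (c * X * c) * w * (c * X * c) := by rw [h1, hw'def, hXcX]
      _ = w' * w * c * X * (c * w * c) * X * c := by simp only [mul_assoc]
      _ = w' * w * c * (X * w * X) * c := by
          rw [← hwc.eq, mul_assoc w c c, hc2, mul_one]; simp only [mul_assoc]
      _ = w' * (w * (c * w' * c)) := by rw [hw'def]; simp only [mul_assoc]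
  have hrw' : w' ∈ rad D (d * s) := by
    have h1 := lower_conj_mem (k := 0) hD hwrad X
    rwa [eq_inv_of_sq hX2, hw'def, hXdX] at h1
  have hfds : f ∈ rad D (d * s) := by
    have h1 : X * f * X ∈ rad D (d * s) := by
      have h1 := lower_conj_mem (k := 0) hD hfrad X
      rwa [eq_inv_of_sq hX2, hXdX] at h1
    rw [hXfX] at h1
    have h2 := Subgroup.mul_mem _ hrw' h1
    rw [inv_cancel' hw'2] at h2
    have h3 : w * w' * w ∈ rad D (d * s) := by
      have h3 := lower_conj_self (k := 0) hD hrw' hwds.eq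
      rwa [eq_inv_of_sq hw2] at h3
    have h4 := Subgroup.mul_mem _ h3 h2
    rw [← hfdef, ← hαdef]
    convert h4 using 1
    simp only [mul_assoc]; rw [inv_cancel' hw2]
  -- the element `q`
  obtain ⟨q, hqdef⟩ : ∃ q, ⁅b, s⁆ = q := ⟨_, rfl⟩
  have hqL : q ∈ (rad D d).lowerCentralSeries 1 := hqdef ▸ commutator_mem_lower_succ (k := 0) hbrad hsrad
  have hq : q = b * s * b * s := by rw [← hqdef, commutator_eq_of_sq hb2 hs2]
  have hsbs : s * b * s = b * q := by rw [hq]; simp only [mul_assoc]; rw [inv_cancel' hb2]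
  have hpb : Commute p b := sub_central hp hbrad
  have hpq : Commute p q := sub_central hp (lower_le_rad d _ hqL)
  have hkey : a * b * q * a * b * q = a * b * a * b * d := by
    rw [hab, ← hscs]
    conv_rhs => rw [← hab]
    calc a * b * q * a * b * q = a * b * q * a * b * q * (p * p) := by rw [hp2, mul_one]
      _ = a * (p * (b * q)) * (a * (p * (b * q))) := by
          rw [((hpb.mul_right hpq).eq : p * (b * q) = b * q * p)]
          have : Commute p a := sub_central hp harad
          calc a * b * q * a * b * q * (p * p) = a * (b * q) * (a * (b * q) * p) * p := by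
                simp only [mul_assoc]
            _ = a * (b * q) * (p * (a * (b * q))) * p := by rw [(this.mul_right (hpb.mul_right hpq)).eq]
            _ = a * (b * q * p) * (a * (b * q * p)) := by simp only [mul_assoc]
      _ = (s * a * s) * (s * b * s) * ((s * a * s) * (s * b * s)) := by
          rw [hsas, hsbs]; simp only [mul_assoc]
      _ = s * (a * b * a * b) * s := by simp only [mul_assoc]; simp only [inv_cancel' hs2]
  rcases commutator_mem_or_eq_one hD hb hs with h | ⟨hqD, h4⟩
  · rw [hqdef] at h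
    rw [h, mul_one, mul_one] at hkey
    exact ne_one_of_mem hD hd (mul_left_cancel (hkey.symm.trans (mul_one _).symm))
  · rw [hqdef] at hqD
    have hqb : Commute q b := by
      rw [← hqdef, commutator_eq_sq hD hb.1 hs.1]
      exact sq_commute_left hb2 hs2 (pow_four_of_four h4)
    have hq2 := mul_self_of_mem hD hqD
    have hqaq : a * q * a * q = d := by
      have h1 : q * a * b * q = a * b * d := by
        have := mul_left_cancel (a := a * b) (b := q * a * b * q) (c := a * b * d) (by
          simp only [← mul_assoc]; exact hkey)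
        exact this
      have h2 : q * a * q * b = a * d * b := by
        calc q * a * q * b = q * a * (b * q) := by rw [mul_assoc _ q b, hqb.eq]
          _ = a * b * d := by rw [← mul_assoc, h1]
          _ = a * d * b := by rw [mul_assoc a b d, hb.2.1, ← mul_assoc]
      rw [show a * q * a * q = a * (q * a * q) by simp only [mul_assoc], mul_right_cancel h2,
        inv_cancel' ha2]
    have hqc : Commute q c := commute_one_top (hT d hd) hqL hcA
    have hqd : Commute q d := commute_of_mem_rad (lower_le_rad d 1 hqL)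
    have hqs : Commute q s := by
      rw [← hqdef, commutator_eq_sq hD hb.1 hs.1]
      exact sq_commute_right hb2 hs2 (pow_four_of_four h4)
    have hdsD : d * s ∈ D := hXdX ▸ conj_mem' hD hd hX2
    have hqds : q ∈ rad D (d * s) := by
      refine Subgroup.subset_closure (iso_of_mul_mem hD hdsD hqD (hqd.mul_right hqs).eq ?_)
      have h1 : q * s ∈ D := by
        rw [hq, mul_assoc (b * s * b), hs2, mul_one]
        exact conj_mem' hD hs.1 hb2
      have h2 := conj_mem' hD h1 hc2
      rwa [← mul_assoc c q s, ← hqc.eq, mul_assoc q c s, mul_assoc q (c * s) c, hcs] at h2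
    have hβ : Commute (e * α) q :=
      (commute_one_top (hT d hd) hqL (Subgroup.mul_mem _ heA hαA)).symm
    have hfq : ⁅f, q⁆ = d := by
      rw [← hfdef, ← hwdef, mul_assoc a e α]
      calc ⁅a * (e * α), q⁆ = a * ((e * α) * q * (e * α)⁻¹) * a⁻¹ * q⁻¹ := by
            rw [commutatorElement_def]; simp only [mul_assoc, mul_inv_rev]
        _ = d := by
            rw [hβ.eq, mul_inv_cancel_right, eq_inv_of_sq ha2, eq_inv_of_sq hq2, hqaq]
    have hdL' : d ∈ (rad D (d * s)).lowerCentralSeries 1 := by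
      have := commutator_mem_lower_succ (k := 0) hfds hqds
      rwa [hfq] at this
    have hds : d * (d * s) = s := inv_cancel' hd2 s
    have hp' : d ∈ productPartners D (d * s) := by
      refine ⟨⟨hd, ?_, fun e => ne_one_of_mem hD hs.1 ?_⟩, by rw [hds]; exact hs.1⟩
      · rw [mul_assoc d s d, hs.2.1]
      · rw [← hds, ← e, hd2]
    have hcl : d ∉ sameCommutingClass D (d * s) := fun h => hsc (by
      have h1 : d * (d * s) ∈ sameCommutingSubgroup D d :=
        Subgroup.mul_mem _ (self_mem_sub hd) (class_mem_sub hdsD h.2.symm)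
      rw [hds] at h1
      exact sub_central h1 (lower_le_rad d _ hcA))
    have h1 := lower_symm hD hc hdsD hp' hcl hdL'
    exact hsL (by have := Subgroup.mul_mem _ hdL h1; rwa [hds] at this)

/-- The derived subgroup of `rad D d` lies in `E(d)`. -/
theorem lower_one_le_sub [Finite G] (hD : IsRootInvolutionSet D) (hc : IsConnectedSet (OddAdj D) D)
    (hE : ClassClosed D) {d : G} (hd : d ∈ D) :
    (rad D d).lowerCentralSeries 1 ≤ sameCommutingSubgroup D d := by
  classical
  by_contra hnot
  have hex : ∃ n, (rad D d).lowerCentralSeries (n + 1) ≤ sameCommutingSubgroup D d := by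
    obtain ⟨k, hk⟩ := exists_lower_eq_bot hD d
    exact ⟨k, ((rad D d).lowerCentralSeries_antitone (Nat.le_succ k)).trans (hk.le.trans bot_le)⟩
  have hn0 : Nat.find hex ≠ 0 := fun h => hnot (by
    have := Nat.find_spec hex
    rwa [h] at this)
  obtain ⟨m, hm⟩ := Nat.exists_eq_succ_of_ne_zero hn0
  have hmin := Nat.find_min hex (m := m) (by omega)
  have hT : ∀ e ∈ D, (rad D e).lowerCentralSeries (m + 2) ≤ sameCommutingSubgroup D e := by
    intro e he
    obtain ⟨g, hg⟩ := exists_conj_of_connected hD hc hd he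
    rw [hg, ← map_lower hD, ← map_sub hD]
    refine Subgroup.map_mono ?_
    have := Nat.find_spec hex
    rwa [hm] at this
  apply hmin
  rw [Subgroup.lowerCentralSeries_succ]
  refine (Subgroup.commutator_mono (lower_le_closure hD d m) le_rfl).trans (commutator_closure_le ?_ ?_ ?_)
  · intro g hg w hw
    have hg' : g ∈ rad D d := lower_le_rad d m ((Subgroup.closure_le _).2 (fun y hy => hy.2) hg)
    rwa [← (sub_central hw hg').eq, mul_inv_cancel_right]
  · intro g hg w hw
    rwa [← (sub_central hw hg).eq, mul_inv_cancel_right]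
  rintro a ⟨ha, haB⟩ b hb
  by_contra hne
  have haI := iso_of_mem_rad hD (lower_le_rad d m haB) ha
  obtain ⟨c, hcdef⟩ : ∃ c, ⁅a, b⁆ = c := ⟨_, rfl⟩
  have hbrad : b ∈ rad D d := Subgroup.subset_closure hb
  have hcA : c ∈ (rad D d).lowerCentralSeries (m + 1) := hcdef ▸ commutator_mem_lower_succ haB hbrad
  rcases commutator_mem_or_eq_one hD haI hb with h | ⟨hcD, h4⟩
  · exact hne (h ▸ Subgroup.one_mem _)
  rw [hcdef] at hne hcD
  have hd2 := mul_self_of_mem hD hd
  have ha2 := mul_self_of_mem hD ha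
  have hb2 := mul_self_of_mem hD hb.1
  have hc2 := mul_self_of_mem hD hcD
  have hab : a * b * a * b = c := by rw [← hcdef, commutator_eq_of_sq ha2 hb2]
  have hac : a * c = c * a := by
    rw [← hcdef, commutator_eq_sq hD ha hb.1]
    exact (sq_commute_left ha2 hb2 (pow_four_of_four h4)).eq.symm
  have hcd : c * d = d * c := (commute_of_mem_rad (lower_le_rad d _ hcA)).eq
  have hcne : c ≠ d := fun e => hne (by rw [e]; exact self_mem_sub hd)
  have hcdD : c * d ∈ D := clean_of_succ hD hc hE hd (hT d hd) hcD hcA hcne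
  obtain ⟨s, hs, hcs4, hsq⟩ := exists_partner_sq hD hc hd ⟨⟨hcD, hcd, hcne⟩, hcdD⟩
    (fun h => hne (class_mem_sub h.1 h.2))
  have hsD := hs.1.1
  have hs2 := mul_self_of_mem hD hsD
  have hsI := iso_of_partner hD hd hs
  have hscs : s * c * s = c * d := by rw [← hsq, mul_sq_left hc2]
  have hcs' : c * s * c = d * s := by
    rw [← hsq, sq_mul_right hs2]
  have hdL : d ∈ (rad D d).lowerCentralSeries 1 := by
    have := (rad D d).lowerCentralSeries_antitone (show 1 ≤ m + 1 + 1 by omega)
      (commutator_mem_lower_succ hcA (Subgroup.subset_closure hsI))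
    rwa [commutator_eq_sq hD hcD hsD, hsq] at this
  have hsL : s ∉ (rad D d).lowerCentralSeries 1 := fun h =>
    not_commute_of_four hD hcD hsD hcs4 (commute_one_top (hT d hd) h hcA).eq.symm
  obtain ⟨X, hX, hXs, hcX, -, hXsq⟩ := exists_order_three_commuting hD hc hcD hsD hcs4
  rw [hsq] at hXsq
  have hXdX : X * d * X = d * s := by rw [← hXsq, mul_sq_left hd2]
  by_cases hp : ⁅a, s⁆ ∈ sameCommutingSubgroup D d
  · exact core_inside hD hc hE hT hd ha haB hb hab hac hcD hcA hne hsI hcs' hscs hsL hdL hX hXs hcX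
      hXdX hp
  · refine core_outside hD hc hE hT hd ha haB (fun h => hne ?_) hb hab hac hcD hcA hsI hcs' hsL hdL hX
      hXs hcX hXdX hp
    rw [← hcdef, commutatorElement_eq_one_iff_mul_comm.2 (sub_central h hbrad).eq]
    exact Subgroup.one_mem _

/-- An isolated member other than `d` is a product partner of `d`. -/
theorem iso_iff_partner [Finite G] (hD : IsRootInvolutionSet D) (hc : IsConnectedSet (OddAdj D) D)
    (hE : ClassClosed D) {d y : G} (hd : d ∈ D) : Iso D d y ↔ y ∈ productPartners D d ∪ {d} := by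
  constructor
  · intro h
    by_cases hne : y = d
    · exact Or.inr hne
    · exact Or.inl ⟨⟨h.1, h.2.1, hne⟩, clean_of_succ (k := 0) hD hc hE hd (lower_one_le_sub hD hc hE hd)
        h.1 (Subgroup.subset_closure h) hne⟩
  · rintro (h | rfl)
    · exact iso_of_partner hD hd h
    · exact iso_self hD hd

end Cfsg.Lib.RootInvol
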