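import Cfsg.Prelude.Def_RootSubgroups
import Cfsg.Agent.Lib.Invol.BaerSuzuki
import Cfsg.Agent.Lib.Core.Cores

/-!
# Components of the odd-order-product graph of root involutions
-/

set_option autoImplicit false

namespace Cfsg.Lib.RootInvol

open Cfsg

variable {G : Type*} [Group G] {D : Set G}

theorem mul_self_of_mem (hD : IsRootInvolutionSet D) {a : G} (ha : a ∈ D) : a * a = 1 := by
  rw [← pow_two, ← hD.orderOf_eq a ha, pow_orderOf_eq_one]

theorem inv_of_mem (hD : IsRootInvolutionSet D) {a : G} (ha : a ∈ D) : a⁻¹ = a :=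
  inv_eq_of_mul_eq_one_right (mul_self_of_mem hD ha)

theorem mul_self_cancel (hD : IsRootInvolutionSet D) {a : G} (ha : a ∈ D) (x : G) : a * (a * x) = x := by
  rw [← mul_assoc, mul_self_of_mem hD ha, one_mul]

theorem orderOf_swap (hD : IsRootInvolutionSet D) {a b : G} (ha : a ∈ D) (hb : b ∈ D) :
    orderOf (b * a) = orderOf (a * b) := by
  rw [show b * a = (a * b)⁻¹ by rw [mul_inv_rev, inv_of_mem hD ha, inv_of_mem hD hb], orderOf_inv]

theorem oddAdj_symm (hD : IsRootInvolutionSet D) {a b : G} (h : OddAdj D a b) : OddAdj D b a :=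
  ⟨h.2.1, h.1, h.2.2.1.symm, by rw [orderOf_swap hD h.1 h.2.1]; exact h.2.2.2⟩

theorem not_commute_of_oddAdj (hD : IsRootInvolutionSet D) {a b : G} (h : OddAdj D a b) :
    a * b ≠ b * a := by
  intro hc
  have h2 : (a * b) ^ 2 = 1 := by
    have h3 : Commute a b := hc
    rw [h3.mul_pow, pow_two, pow_two, mul_self_of_mem hD h.1, mul_self_of_mem hD h.2.1, one_mul]
  have h3 : orderOf (a * b) = 1 := by
    rcases (Nat.dvd_prime Nat.prime_two).1 (orderOf_dvd_of_pow_eq_one h2) with h4 | h4
    · exact h4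
    · exact absurd (h4 ▸ h.2.2.2) (by decide)
  rw [orderOf_eq_one_iff] at h3
  exact h.2.2.1 (by rw [← inv_of_mem hD h.1]; exact (eq_inv_of_mul_eq_one_right h3).symm)

/-- Two members that are not adjacent generate a dihedral group of order dividing eight. -/
theorem pow_four_of_not_oddAdj (hD : IsRootInvolutionSet D) {a b : G} (ha : a ∈ D) (hb : b ∈ D)
    (h : ¬ OddAdj D a b) : (a * b) ^ 4 = 1 := by
  rcases hD.pair a ha b hb with h1 | h1 | ⟨h1, -⟩
  · have h3 : Commute a b := h1
    rw [h3.mul_pow, show (4 : ℕ) = 2 * 2 from rfl, pow_mul, pow_mul, pow_two a, pow_two b,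
      mul_self_of_mem hD ha, mul_self_of_mem hD hb, one_pow, one_mul]
  · by_cases hab : a = b
    · subst hab
      rw [mul_self_of_mem hD ha, one_pow]
    · exact absurd ⟨ha, hb, hab, h1⟩ h
  · rw [← h1, pow_orderOf_eq_one]

/-- An involution times a commuting element of odd order `> 1` is no product of two members. -/
theorem not_exists_commuting (hD : IsRootInvolutionSet D) {a e x : G} (ha : a ∈ D) (hea : e * a = a * e)
    (hae : a * e ∈ D) (hex : OddAdj D e x) (hax : a * x = x * a) : False := by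
  have hu : Odd (orderOf (e * x)) := hex.2.2.2
  have hc : Commute a (e * x) := by
    have h1 : Commute a e := hea.symm
    exact h1.mul_right hax
  have hord : orderOf (a * (e * x)) = 2 * orderOf (e * x) := by
    rw [hc.orderOf_mul_eq_mul_orderOf_of_coprime (by rw [hD.orderOf_eq a ha]; exact hu.coprime_two_left),
      hD.orderOf_eq a ha]
  have hm : orderOf (e * x) ≠ 1 := fun h => not_commute_of_oddAdj hD hex (by
    rw [orderOf_eq_one_iff.1 h]
    have := congrArg (·⁻¹) (orderOf_eq_one_iff.1 h)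
    simpa [mul_inv_rev, inv_of_mem hD hex.1, inv_of_mem hD hex.2.1] using this.symm)
  rw [← mul_assoc] at hord
  rcases hD.pair _ hae x hex.2.1 with h1 | h1 | ⟨h1, -⟩
  · have h3 : Commute (a * e) x := h1
    have h4 : (a * e * x) ^ 2 = 1 := by
      rw [h3.mul_pow, pow_two, pow_two, mul_self_of_mem hD hae, mul_self_of_mem hD hex.2.1, one_mul]
    have := Nat.le_of_dvd two_pos (orderOf_dvd_of_pow_eq_one h4)
    have := hu.pos
    omega
  · rw [hord] at h1
    exact absurd h1 (by simp [parity_simps])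
  · rw [hord] at h1
    have : orderOf (e * x) = 2 := by omega
    rw [this] at hu
    exact absurd hu (by decide)

theorem eq_of_sq_eq {u v : G} (hu : Odd (orderOf u)) (hv : Odd (orderOf v)) (h : u ^ 2 = v ^ 2) : u = v := by
  have h1 : orderOf u = orderOf v := by
    rw [← (Nat.Coprime.orderOf_pow (m := 2) hu.coprime_two_right),
      ← (Nat.Coprime.orderOf_pow (m := 2) hv.coprime_two_right), h]
  obtain ⟨k, hk⟩ := hu
  calc u = u ^ orderOf u * u := by rw [pow_orderOf_eq_one, one_mul]
    _ = (u ^ 2) ^ (k + 1) := by rw [hk, ← pow_succ, ← pow_mul]; congr 1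
    _ = (v ^ 2) ^ (k + 1) := by rw [h]
    _ = v ^ orderOf v * v := by rw [← h1, hk, ← pow_succ, ← pow_mul]; congr 1
    _ = v := by rw [pow_orderOf_eq_one, one_mul]

theorem not_both_four (hD : IsRootInvolutionSet D) {a e x : G} (ha : a ∈ D) (hea : e * a = a * e)
    (hex : OddAdj D e x) (h4 : orderOf (a * x) = 4) (hf : (a * x) ^ 2 ∈ D)
    (h4' : orderOf (a * e * x) = 4) : False := by
  have he := hex.1
  have hx := hex.2.1
  set f := (a * x) ^ 2 with hfdef
  set u := e * x with hudef
  have hfi : f⁻¹ = f := inv_of_mem hD hf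
  have hfx : f * x = a * x * a := by rw [hfdef, pow_two, ← mul_assoc, mul_assoc _ x x, mul_self_of_mem hD hx, mul_one]
  have hxf : x * f = a * x * a := by
    conv_lhs => rw [← hfi, hfdef, pow_two, mul_inv_rev, mul_inv_rev, inv_of_mem hD ha, inv_of_mem hD hx]
    simp only [← mul_assoc, mul_self_of_mem hD hx, one_mul]
  have hconj : a * u * a = u * f := by
    rw [hudef, ← mul_assoc a e, ← hea]
    calc e * a * x * a = e * (a * x * a) := by simp only [mul_assoc]
      _ = e * x * f := by rw [← hxf, mul_assoc]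
  have hau : (a * u) ^ 2 = u * f * u := by
    rw [pow_two, ← mul_assoc, hconj]
  have h5 : u * f * u * (u * f * u) = 1 := by
    rw [← hau, ← pow_two, ← pow_mul, show 2 * 2 = 4 from rfl, hudef, ← mul_assoc, ← h4',
      pow_orderOf_eq_one]
  have h6 : f * u ^ 2 * f⁻¹ = (u ^ 2)⁻¹ := by
    rw [hfi]
    calc f * u ^ 2 * f = u⁻¹ * (u * f * u * (u * f * u)) * u⁻¹ := by
          simp only [pow_two, mul_assoc]; group
      _ = (u ^ 2)⁻¹ := by rw [h5, mul_one, pow_two]; group
  have h7 : f * u * f⁻¹ = u⁻¹ := by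
    refine eq_of_sq_eq ?_ ?_ (by rw [conj_pow, h6, inv_pow])
    · rw [show f * u * f⁻¹ = MulAut.conj f u from rfl, MulEquiv.orderOf_eq]
      exact hex.2.2.2
    · rw [orderOf_inv]; exact hex.2.2.2
  have h8 : f * e * f = x * e * x := by
    rw [hfi, hudef, mul_inv_rev, inv_of_mem hD he, inv_of_mem hD hx] at h7
    calc f * e * f = f * e * (x * f) * (x * f)⁻¹ * f := by group
      _ = x * e * (x * f)⁻¹ * f := by rw [← mul_assoc (f * e), mul_assoc f e x, h7]
      _ = x * e * (f * x)⁻¹ * f := by rw [hfx, hxf]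
      _ = x * e * x := by rw [mul_inv_rev, inv_of_mem hD hx, hfi]; simp only [mul_assoc, mul_self_of_mem hD hf, mul_one]
  have h9 : (f * e) ^ 2 = (x * e) ^ 2 := by
    rw [pow_two, pow_two, ← mul_assoc, h8, mul_assoc]
  have hxe := (oddAdj_symm hD hex).2.2.2
  by_cases hfe : OddAdj D f e
  · have h10 := eq_of_sq_eq hfe.2.2.2 hxe h9
    have h11 : f = x := mul_right_cancel h10
    have h12 : a * x * a = 1 := by rw [← hfx, h11, mul_self_of_mem hD hx]
    have h13 : x = 1 := by
      calc x = a * (a * x * a) * a := by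
            simp only [mul_assoc, mul_self_of_mem hD ha, mul_one]; rw [mul_self_cancel hD ha]
        _ = 1 := by rw [h12, mul_one, mul_self_of_mem hD ha]
    have := hD.orderOf_eq x hx
    rw [h13, orderOf_one] at this
    omega
  · have h10 : (x * e) ^ 4 = 1 := by
      rw [show (4 : ℕ) = 2 * 2 from rfl, pow_mul, ← h9, ← pow_mul, pow_four_of_not_oddAdj hD hf he hfe]
    have h11 := orderOf_dvd_of_pow_eq_one h10
    have h12 : orderOf (x * e) = 1 := by
      rcases Nat.le_of_dvd (by norm_num) h11 |>.lt_or_eq with h | h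
      · obtain ⟨k, hk⟩ := hxe
        interval_cases hn : orderOf (x * e) <;> omega
      · rw [h] at hxe
        exact absurd hxe (by decide)
    rw [orderOf_eq_one_iff] at h12
    refine (oddAdj_symm hD hex).2.2.1 ?_
    rw [← inv_of_mem hD hx]
    exact (eq_inv_of_mul_eq_one_right h12).symm

theorem edge_of_pair (hD : IsRootInvolutionSet D) {a e x : G} (ha : a ∈ D) (he : e ∈ D)
    (hea : e * a = a * e) (hne : e ≠ a) (hae : a * e ∈ D) (hex : OddAdj D e x) :
    OddAdj D x a ∨ OddAdj D x (a * e) := by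
  have hx := hex.2.1
  have hxa : x ≠ a := by
    rintro rfl
    exact not_commute_of_oddAdj hD hex hea
  have hxae : x ≠ a * e := by
    rintro rfl
    exact not_commute_of_oddAdj hD hex (by rw [← mul_assoc, hea, mul_assoc])
  have hback : a * e * e = a := by rw [mul_assoc, mul_self_of_mem hD he, mul_one]
  rcases hD.pair a ha x hx with h1 | h1 | ⟨h1, h1'⟩
  · exact (not_exists_commuting hD ha hea hae hex h1).elim
  · exact Or.inl (oddAdj_symm hD ⟨ha, hx, hxa.symm, h1⟩)
  rcases hD.pair _ hae x hx with h2 | h2 | ⟨h2, -⟩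
  · refine (not_exists_commuting hD hae ?_ (by rw [hback]; exact ha) hex h2).elim
    rw [← mul_assoc, hea]
  · exact Or.inr (oddAdj_symm hD ⟨hae, hx, hxae.symm, h2⟩)
  · exact (not_both_four hD ha hea hex h1 h1' h2).elim

theorem reach_symm (hD : IsRootInvolutionSet D) {a b : G}
    (h : Relation.ReflTransGen (OddAdj D) a b) : Relation.ReflTransGen (OddAdj D) b a := by
  induction h with
  | refl => exact .refl
  | tail _ hab ih => exact (Relation.ReflTransGen.single (oddAdj_symm hD hab)).trans ih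

theorem exists_adj_of_component (hD : IsRootInvolutionSet D) {a : G}
    (h : ∃ a' ∈ elemComponentOf (OddAdj D) D a, a' ≠ a) : ∃ a', OddAdj D a a' := by
  obtain ⟨a', ⟨-, hr⟩, hne⟩ := h
  rcases hr.cases_head with rfl | ⟨c, hc, -⟩
  · exact absurd rfl hne
  · exact ⟨c, hc⟩

theorem productPartners_subset (hD : IsRootInvolutionSet D) {a : G} (ha : a ∈ D)
    (h : ∃ a' ∈ elemComponentOf (OddAdj D) D a, a' ≠ a) :
    productPartners D a ⊆ elemComponentOf (OddAdj D) D a ∪ {w | IsIsolatedElem (OddAdj D) D w} := by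
  rintro e ⟨⟨he, hea, hne⟩, hed⟩
  by_cases hw : IsIsolatedElem (OddAdj D) D e
  · exact Or.inr hw
  refine Or.inl ⟨he, ?_⟩
  obtain ⟨x, hex⟩ : ∃ x, OddAdj D e x := by
    by_contra hh
    push Not at hh
    exact hw ⟨he, fun b => ⟨hh b, fun h' => hh b (oddAdj_symm hD h')⟩⟩
  have hae : a * e ∈ D := hea ▸ hed
  rcases edge_of_pair hD ha he hea hne hae hex with h1 | h1
  · exact (Relation.ReflTransGen.single (oddAdj_symm hD h1)).trans
      (Relation.ReflTransGen.single (oddAdj_symm hD hex))
  -- `e` and `a * e` are connected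
  have hb : Relation.ReflTransGen (OddAdj D) (a * e) e :=
    (Relation.ReflTransGen.single (oddAdj_symm hD h1)).trans
      (Relation.ReflTransGen.single (oddAdj_symm hD hex))
  obtain ⟨a', haa'⟩ := exists_adj_of_component hD h
  have hne' : a ≠ e := hne.symm
  have hea' : e * a ∈ D := hed
  rcases edge_of_pair hD he ha hea.symm hne' hea' haa' with h2 | h2
  · exact (Relation.ReflTransGen.single haa').trans (Relation.ReflTransGen.single h2)
  · rw [hea] at h2
    exact (Relation.ReflTransGen.single haa').trans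
      ((Relation.ReflTransGen.single h2).trans hb)

theorem isolated_conj (hD : IsRootInvolutionSet D) {w : G} (hw : IsIsolatedElem (OddAdj D) D w) (g : G) :
    IsIsolatedElem (OddAdj D) D (g * w * g⁻¹) := by
  refine ⟨hD.conj_mem w hw.1 g, fun b => ?_⟩
  have key : ¬ OddAdj D (g * w * g⁻¹) b := by
    rintro ⟨-, hb, hne, hodd⟩
    refine (hw.2 (g⁻¹ * b * g⁻¹⁻¹)).1 ⟨hw.1, hD.conj_mem b hb _, fun h => hne ?_, ?_⟩
    · rw [h]; group
    · have e : w * (g⁻¹ * b * g⁻¹⁻¹) = MulAut.conj g⁻¹ (g * w * g⁻¹ * b) := by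
        rw [MulAut.conj_apply]; group
      rw [e, MulEquiv.orderOf_eq]
      exact hodd
  exact ⟨key, fun h => key (oddAdj_symm hD h)⟩

theorem mem_pCore_of_isolated [Finite G] (hD : IsRootInvolutionSet D) {w : G}
    (hw : IsIsolatedElem (OddAdj D) D w) : w ∈ Cfsg.pCore 2 G := by
  haveI : Fact (Nat.Prime 2) := ⟨Nat.prime_two⟩
  have h2 : ∀ x : G, x * x = 1 → IsPGroup 2 (Subgroup.zpowers x) := fun x hx => by
    rintro ⟨_, k, rfl⟩
    exact ⟨1, Subtype.ext (by
      show (x ^ k) ^ (2 ^ 1 : ℕ) = 1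
      rw [pow_one, ← zpow_natCast, ← zpow_mul, mul_comm, zpow_mul, zpow_natCast, pow_two, hx, one_zpow])⟩
  obtain ⟨N, hN, hNp, hwN⟩ := Cfsg.Lib.Invol.baerSuzuki (p := 2) (Subgroup.zpowers w)
    (h2 w (mul_self_of_mem hD hw.1)) fun g => by
      rw [MonoidHom.map_zpowers]
      set v := (MulAut.conj g).toMonoidHom w with hv
      have hvD : v ∈ D := hD.conj_mem w hw.1 g
      set C := Subgroup.zpowers (w * v) with hCdef
      have hC : IsPGroup 2 C := by
        rintro ⟨_, k, rfl⟩
        exact ⟨2, Subtype.ext (by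
          show ((w * v) ^ k) ^ (2 ^ 2 : ℕ) = 1
          rw [← zpow_natCast, ← zpow_mul, mul_comm, zpow_mul, zpow_natCast,
            show (2 ^ 2 : ℕ) = 4 from rfl, pow_four_of_not_oddAdj hD hw.1 hvD (hw.2 v).1, one_zpow])⟩
      have hwC : ∀ y ∈ C, w * y * w⁻¹ ∈ C := by
        rintro _ ⟨k, rfl⟩
        refine ⟨-k, ?_⟩
        show (w * v) ^ (-k) = w * (w * v) ^ k * w⁻¹
        rw [← conj_zpow, zpow_neg, ← inv_zpow]
        congr 1
        rw [mul_inv_rev, inv_of_mem hD hvD, inv_of_mem hD hw.1, ← mul_assoc w, mul_self_of_mem hD hw.1,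
          one_mul]
      have hn : Subgroup.zpowers w ≤ Subgroup.normalizer (C : Set G) :=
        Subgroup.zpowers_le.2 (Subgroup.mem_normalizer_iff.2 fun y => ⟨hwC y, fun hy => by
          have := hwC _ hy
          rwa [inv_of_mem hD hw.1, show w * (w * y * w) * w = y by
            simp only [mul_assoc, mul_self_of_mem hD hw.1, mul_one]; rw [mul_self_cancel hD hw.1]] at this⟩)
      refine ((h2 w (mul_self_of_mem hD hw.1)).to_sup_of_normal_right' hC hn).to_le
        (sup_le le_sup_left (Subgroup.zpowers_le.2 ?_))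
      rw [show v = w⁻¹ * (w * v) by group]
      exact Subgroup.mul_mem _ (Subgroup.mem_sup_left (Subgroup.inv_mem _ (Subgroup.mem_zpowers w)))
        (Subgroup.mem_sup_right (Subgroup.mem_zpowers _))
  exact Cfsg.Lib.Core.le_pCore' hN hNp (hwN (Subgroup.mem_zpowers w))

theorem isolated_main [Finite G] (hD : IsRootInvolutionSet D) :
    (∀ w ∈ {w | IsIsolatedElem (OddAdj D) D w}, ∀ g : G, g * w * g⁻¹ ∈ {w | IsIsolatedElem (OddAdj D) D w}) ∧
    (Subgroup.closure {w | IsIsolatedElem (OddAdj D) D w}).Normal ∧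
    IsPGroup 2 ↥(Subgroup.closure {w | IsIsolatedElem (OddAdj D) D w}) ∧
    (Subgroup.closure {w | IsIsolatedElem (OddAdj D) D w} : Set G) ∩ D = {w | IsIsolatedElem (OddAdj D) D w} ∧
    (∀ a ∈ D, ∀ b ∈ D, (∃ a' ∈ elemComponentOf (OddAdj D) D a, a' ≠ a) →
      (∃ b' ∈ elemComponentOf (OddAdj D) D b, b' ≠ b) →
      elemComponentOf (OddAdj D) D a ≠ elemComponentOf (OddAdj D) D b →
        a * b * a⁻¹ * b⁻¹ ∈ Subgroup.closure {w | IsIsolatedElem (OddAdj D) D w}) ∧
    (∀ a ∈ D, (∃ a' ∈ elemComponentOf (OddAdj D) D a, a' ≠ a) →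
      productPartners D a ⊆ elemComponentOf (OddAdj D) D a ∪ {w | IsIsolatedElem (OddAdj D) D w}) := by
  haveI : Fact (Nat.Prime 2) := ⟨Nat.prime_two⟩
  set W := {w | IsIsolatedElem (OddAdj D) D w} with hWdef
  have hconj : ∀ w ∈ W, ∀ g : G, g * w * g⁻¹ ∈ W := fun w hw g => isolated_conj hD hw g
  have hle : Subgroup.closure W ≤ Cfsg.pCore 2 G :=
    (Subgroup.closure_le _).2 fun w hw => mem_pCore_of_isolated hD hw
  refine ⟨hconj, ⟨fun n hn g => ?_⟩, (Cfsg.Lib.Core.pCore_isPGroup 2 G).to_le hle, ?_, ?_,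
    fun a ha h => productPartners_subset hD ha h⟩
  · have h1 : (Subgroup.closure W).map (MulAut.conj g).toMonoidHom ≤ Subgroup.closure W := by
      rw [MonoidHom.map_closure, Subgroup.closure_le]
      rintro _ ⟨w, hw, rfl⟩
      exact Subgroup.subset_closure (hconj w hw g)
    exact h1 ⟨n, hn, rfl⟩
  · refine Set.Subset.antisymm ?_ fun w hw => ⟨Subgroup.subset_closure hw, hw.1⟩
    rintro d ⟨hd, hdD⟩
    refine ⟨hdD, fun x => ?_⟩
    have key : ¬ OddAdj D d x := by
      intro hdx
      have h1 : (d * x) ^ 2 ∈ Cfsg.pCore 2 G := by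
        rw [pow_two, show d * x * (d * x) = d * (x * d * x⁻¹) by
          rw [inv_of_mem hD hdx.2.1]; simp only [mul_assoc]]
        exact Subgroup.mul_mem _ (hle hd)
          ((inferInstance : (Cfsg.pCore 2 G).Normal).conj_mem _ (hle hd) x)
      obtain ⟨k, hk⟩ := Cfsg.Lib.Core.pCore_isPGroup 2 G ⟨_, h1⟩
      have h2 : (d * x) ^ (2 * 2 ^ k) = 1 := by
        rw [pow_mul]; exact congrArg Subtype.val hk
      have h3 : orderOf (d * x) = 1 := by
        refine Nat.eq_one_of_dvd_coprimes ?_ (dvd_refl (orderOf (d * x))) (orderOf_dvd_of_pow_eq_one h2)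
        rw [← pow_succ']
        exact (hdx.2.2.2.coprime_two_right).pow_right _
      rw [orderOf_eq_one_iff] at h3
      exact hdx.2.2.1 (by rw [← inv_of_mem hD hdx.1]; exact (eq_inv_of_mul_eq_one_right h3).symm)
    exact ⟨key, fun h => key (oddAdj_symm hD h)⟩
  · intro a ha b hb hA hB hne
    have hnr : ¬ Relation.ReflTransGen (OddAdj D) a b := by
      intro h
      refine hne (Set.ext fun c => ?_)
      exact ⟨fun hc => ⟨hc.1, (reach_symm hD h).trans hc.2⟩, fun hc => ⟨hc.1, h.trans hc.2⟩⟩
    have hab : a ≠ b := fun h => hnr (h ▸ .refl)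
    rcases hD.pair a ha b hb with h1 | h1 | ⟨h4, hf⟩
    · rw [show a * b * a⁻¹ * b⁻¹ = 1 by rw [h1]; group]
      exact Subgroup.one_mem _
    · exact absurd (Relation.ReflTransGen.single ⟨ha, hb, hab, h1⟩) hnr
    set e := (a * b) ^ 2 with hedef
    have hcomm : a * b * a⁻¹ * b⁻¹ = e := by
      rw [inv_of_mem hD ha, inv_of_mem hD hb, hedef, pow_two, mul_assoc (a * b)]
    rw [hcomm]
    refine Subgroup.subset_closure ?_
    have hei : e⁻¹ = e := inv_of_mem hD hf
    have hei' : e = b * a * (b * a) := by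
      conv_lhs => rw [← hei, hedef, pow_two, mul_inv_rev, mul_inv_rev, inv_of_mem hD ha, inv_of_mem hD hb]
    have hea : e * a = a * e := by
      conv_lhs => rw [hedef, pow_two]
      conv_rhs => rw [hei']
      simp only [mul_assoc]
    have heb : e * b = b * e := by
      conv_lhs => rw [hei']
      conv_rhs => rw [hedef, pow_two]
      simp only [mul_assoc]
    have hed : ∀ {c : G}, c ∈ D → orderOf e = 2 → e = c → c * e = 1 := fun hc _ h => by
      rw [h, mul_self_of_mem hD hc]
    have hne_a : e ≠ a := by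
      intro h
      have h5 : b * a * b = 1 := by
        have : a * (b * a * b) = a := by
          conv_rhs => rw [← h, hedef, pow_two]
          simp only [mul_assoc]
        simpa using this
      have h6 : a = 1 := by
        calc a = b * (b * a * b) * b := by
              simp only [mul_assoc, mul_self_of_mem hD hb, mul_one]; rw [mul_self_cancel hD hb]
          _ = 1 := by rw [h5, mul_one, mul_self_of_mem hD hb]
      have := hD.orderOf_eq a ha
      rw [h6, orderOf_one] at this
      omega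
    have hne_b : e ≠ b := by
      intro h
      have h5 : a * b * a = 1 := by
        have : (a * b * a) * b = b := by
          conv_rhs => rw [← h, hedef, pow_two]
          simp only [mul_assoc]
        simpa using this
      have h6 : b = 1 := by
        calc b = a * (a * b * a) * a := by
              simp only [mul_assoc, mul_self_of_mem hD ha, mul_one]; rw [mul_self_cancel hD ha]
          _ = 1 := by rw [h5, mul_one, mul_self_of_mem hD ha]
      have := hD.orderOf_eq b hb
      rw [h6, orderOf_one] at this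
      omega
    have hea' : e * a ∈ D := by
      rw [hea, show a * e = b * a * b⁻¹ by
        rw [hedef, pow_two, inv_of_mem hD hb]; simp only [← mul_assoc, mul_self_of_mem hD ha, one_mul]]
      exact hD.conj_mem a ha b
    have heb' : e * b ∈ D := by
      rw [show e * b = a * b * a⁻¹ by
        rw [hedef, pow_two, inv_of_mem hD ha]; simp only [mul_assoc, mul_self_of_mem hD hb, mul_one]]
      exact hD.conj_mem b hb a
    rcases productPartners_subset hD ha hA ⟨⟨hf, hea, hne_a⟩, hea'⟩ with h1 | h1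
    · rcases productPartners_subset hD hb hB ⟨⟨hf, heb, hne_b⟩, heb'⟩ with h2 | h2
      · exact absurd (h1.2.trans (reach_symm hD h2.2)) hnr
      · exact h2
    · exact h1

end Cfsg.Lib.RootInvol
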