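import Cfsg.Agent.Lib.RootInvol.Components

/-!
# Connectedness of the odd graph when the two-core is trivial
-/

set_option autoImplicit false

namespace Cfsg.Lib.RootInvol

open Cfsg

variable {G : Type*} [Group G] {D : Set G}

theorem not_isolated [Finite G] (hD : IsRootInvolutionSet D) (hO : Cfsg.pCore 2 G = ⊥) (w : G) :
    ¬ IsIsolatedElem (OddAdj D) D w := fun hw => by
  have h := mem_pCore_of_isolated hD hw
  rw [hO, Subgroup.mem_bot] at h
  have h2 := hD.orderOf_eq w hw.1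
  rw [h, orderOf_one] at h2
  omega

theorem exists_oddAdj_of_pCore [Finite G] (hD : IsRootInvolutionSet D) (hO : Cfsg.pCore 2 G = ⊥) {a : G}
    (ha : a ∈ D) : ∃ b, OddAdj D a b := by
  by_contra h
  exact not_isolated hD hO a ⟨ha, fun b => ⟨fun h' => h ⟨b, h'⟩, fun h' => h ⟨b, oddAdj_symm hD h'⟩⟩⟩

theorem oddAdj_conj_mem (hD : IsRootInvolutionSet D) {a b : G} (h : OddAdj D a b) (g : G) :
    OddAdj D (g * a * g⁻¹) (g * b * g⁻¹) := by
  refine ⟨hD.conj_mem a h.1 g, hD.conj_mem b h.2.1 g, fun e => h.2.2.1 ?_, ?_⟩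
  · exact mul_left_cancel (mul_right_cancel e)
  · rw [show g * a * g⁻¹ * (g * b * g⁻¹) = MulAut.conj g (a * b) by rw [MulAut.conj_apply]; group,
      MulEquiv.orderOf_eq]
    exact h.2.2.2

theorem connected_of_pCore [Finite G] (hcl : IsRootInvolutionClass D) (hO : Cfsg.pCore 2 G = ⊥) :
    IsConnectedSet (OddAdj D) D := by
  obtain ⟨hD, -, hone⟩ := hcl
  intro a ha b hb
  have hnone : {w | IsIsolatedElem (OddAdj D) D w} = ∅ :=
    Set.eq_empty_iff_forall_notMem.2 fun w hw => not_isolated hD hO w hw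
  have hne : ∀ x ∈ D, ∃ x' ∈ elemComponentOf (OddAdj D) D x, x' ≠ x := by
    intro x hx
    obtain ⟨y, hy⟩ := exists_oddAdj_of_pCore hD hO hx
    exact ⟨y, ⟨hy.2.1, Relation.ReflTransGen.single hy⟩, hy.2.2.1.symm⟩
  have hstep : ∀ t ∈ D, ∀ y ∈ D, Relation.ReflTransGen (OddAdj D) a y →
      Relation.ReflTransGen (OddAdj D) a (t * y * t⁻¹) := by
    intro t ht y hy hay
    by_cases hty : t * y = y * t
    · rwa [hty, mul_inv_cancel_right]
    · have hcomp : Relation.ReflTransGen (OddAdj D) y t := by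
        by_contra hno
        apply hty
        have h := (isolated_main hD).2.2.2.2.1 t ht y hy (hne t ht) (hne y hy) (fun e => hno ?_)
        · rw [hnone, Subgroup.closure_empty, Subgroup.mem_bot] at h
          exact mul_inv_eq_iff_eq_mul.1 (mul_inv_eq_one.1 h)
        · have h2 : t ∈ elemComponentOf (OddAdj D) D y := e ▸ ⟨ht, Relation.ReflTransGen.refl⟩
          exact h2.2
      have hconj : Relation.ReflTransGen (OddAdj D) (t * y * t⁻¹) t := by
        have := Relation.ReflTransGen.lift (fun x => t * x * t⁻¹) (fun x z h => oddAdj_conj_mem hD h t) _ _ hcomp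
        simpa [Function.onFun] using this
      exact (hay.trans hcomp).trans (reach_symm hD hconj)
  suffices h : ∀ g : G, ∀ y ∈ D, Relation.ReflTransGen (OddAdj D) a y →
      Relation.ReflTransGen (OddAdj D) a (g * y * g⁻¹) by
    obtain ⟨g, rfl⟩ := hone a ha b hb
    exact h g a ha Relation.ReflTransGen.refl
  intro g
  have hg : g ∈ Subgroup.closure D := by rw [hD.generates]; exact Subgroup.mem_top g
  suffices h2 : (∀ y ∈ D, Relation.ReflTransGen (OddAdj D) a y →
      Relation.ReflTransGen (OddAdj D) a (g * y * g⁻¹)) ∧ (∀ y ∈ D, Relation.ReflTransGen (OddAdj D) a y →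
      Relation.ReflTransGen (OddAdj D) a (g⁻¹ * y * g⁻¹⁻¹)) from h2.1
  induction hg using Subgroup.closure_induction with
  | mem t ht =>
    refine ⟨hstep t ht, ?_⟩
    rw [inv_of_mem hD ht]
    exact hstep t ht
  | one => simp
  | mul u v _ _ hu hv =>
    refine ⟨fun y hy h => ?_, fun y hy h => ?_⟩
    · rw [show u * v * y * (u * v)⁻¹ = u * (v * y * v⁻¹) * u⁻¹ by group]
      exact hu.1 _ (hD.conj_mem y hy v) (hv.1 y hy h)
    · rw [show (u * v)⁻¹ * y * (u * v)⁻¹⁻¹ = v⁻¹ * (u⁻¹ * y * u⁻¹⁻¹) * v⁻¹⁻¹ by group]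
      exact hv.2 _ (hD.conj_mem y hy _) (hu.2 y hy h)
  | inv u _ hu => exact ⟨hu.2, by rw [inv_inv]; exact hu.1⟩

end Cfsg.Lib.RootInvol
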