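import Cfsg.Agent.Lib.RootInvol.SameClass

/-!
# Members with product of order three
-/

set_option autoImplicit false

namespace Cfsg.Lib.RootInvol

open Cfsg

variable {G : Type*} [Group G] {D : Set G}

/-- The conjugates of `c` under the powers of `f * y`. -/
def orbitElt (c f y : G) (i : ℤ) : G := (f * y) ^ i * c * ((f * y) ^ i)⁻¹

theorem orbitElt_zero (c f y : G) : orbitElt c f y 0 = c := by simp [orbitElt]

theorem orbitElt_mem (hD : IsRootInvolutionSet D) {c : G} (hc : c ∈ D) (f y : G) (i : ℤ) :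
    orbitElt c f y i ∈ D := hD.conj_mem c hc _

theorem orbitElt_reflect (hD : IsRootInvolutionSet D) {c f y : G} (hfD : f ∈ D) (hyD : y ∈ D)
    (hcf : c * f = f * c) (i : ℤ) :
    f * orbitElt c f y i * f = orbitElt c f y (-i) ∧ y * orbitElt c f y i * y = orbitElt c f y (-i - 1) := by
  have hfu : f * (f * y) * f⁻¹ = (f * y)⁻¹ := by
    rw [mul_inv_rev, inv_of_mem hD hfD, inv_of_mem hD hyD, ← mul_assoc f f y, mul_self_of_mem hD hfD, one_mul]
  have hyu : y * (f * y) * y⁻¹ = (f * y)⁻¹ := by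
    rw [mul_inv_rev, inv_of_mem hD hfD, inv_of_mem hD hyD, mul_assoc, mul_assoc f,
      mul_self_of_mem hD hyD, mul_one]
  constructor
  · show f * ((f * y) ^ i * c * ((f * y) ^ i)⁻¹) * f = (f * y) ^ (-i) * c * ((f * y) ^ (-i))⁻¹
    have h1 : f * (f * y) ^ i * f⁻¹ = (f * y) ^ (-i) := by rw [← conj_zpow, hfu, inv_zpow, zpow_neg]
    have h2 : f * c * f⁻¹ = c := by rw [← hcf, mul_inv_cancel_right]
    rw [← h1]
    conv_rhs => rw [← h2]
    conv_lhs => rw [show f * ((f * y) ^ i * c * ((f * y) ^ i)⁻¹) * f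
      = f * ((f * y) ^ i * c * ((f * y) ^ i)⁻¹) * f⁻¹ by rw [inv_of_mem hD hfD]]
    group
  · show y * ((f * y) ^ i * c * ((f * y) ^ i)⁻¹) * y = (f * y) ^ (-i - 1) * c * ((f * y) ^ (-i - 1))⁻¹
    have h1 : y * (f * y) ^ i * y⁻¹ = (f * y) ^ (-i) := by rw [← conj_zpow, hyu, inv_zpow, zpow_neg]
    have h2 : (f * y)⁻¹ * c * (f * y) = y * c * y⁻¹ := by
      rw [mul_inv_rev, inv_of_mem hD hfD, inv_of_mem hD hyD]
      simp only [mul_assoc]
      rw [← mul_assoc c f y, hcf, mul_assoc f c y, mul_self_cancel hD hfD]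
    calc y * ((f * y) ^ i * c * ((f * y) ^ i)⁻¹) * y
        = (y * (f * y) ^ i * y⁻¹) * (y * c * y⁻¹) * (y * (f * y) ^ i * y⁻¹)⁻¹ := by
          rw [inv_of_mem hD hyD]
          simp only [mul_inv_rev, inv_of_mem hD hyD, mul_assoc, mul_self_cancel hD hyD]
      _ = _ := by rw [h1, ← h2]; generalize f * y = u; group

theorem orbitElt_commute (hD : IsRootInvolutionSet D) {c f y : G} (hcD : c ∈ D)
    (hcf : c * f = f * c) (hcfD : c * f ∈ D) (hyf : OddAdj D f y) (hyc : ¬ OddAdj D c y) (i j : ℤ) :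
    Commute (orbitElt c f y i) (orbitElt c f y j) := by
  have hfD := hyf.1
  have hyD := hyf.2.1
  let cc : ℤ → G := orbitElt c f y
  have hcc0 : cc 0 = c := orbitElt_zero c f y
  have hccD : ∀ i, cc i ∈ D := orbitElt_mem hD hcD f y
  have hP : ∀ x, c * x = x * c → ¬ OddAdj D f x := fun x hx hfx =>
    not_exists_commuting hD hcD hcf.symm hcfD hfx hx
  have htr : ∀ {i j : ℤ} (k : ℤ), Commute (cc i) (cc j) → Commute (cc (i + k)) (cc (j + k)) := by
    intro i j k hij
    have h1 : ∀ l, cc (l + k) = MulAut.conj ((f * y) ^ k) (cc l) := fun l => by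
      show (f * y) ^ (l + k) * c * ((f * y) ^ (l + k))⁻¹ =
        (f * y) ^ k * ((f * y) ^ l * c * ((f * y) ^ l)⁻¹) * ((f * y) ^ k)⁻¹
      generalize f * y = u
      group
    rw [h1, h1]
    exact hij.map _
  have hh : ∀ d : ℕ, Commute (cc 0) (cc d) := by
    intro d
    induction d using Nat.strong_induction_on with
    | _ d ih =>
      rcases Nat.even_or_odd d with ⟨a, rfl⟩ | ⟨a, rfl⟩
      · rcases Nat.eq_zero_or_pos a with rfl | ha
        · exact Commute.refl _
        have h1 : ¬ OddAdj D f (cc a) := hP _ (by rw [← hcc0]; exact ih a (by omega))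
        have h2 := commute_conj_of_pow_four hD hfD (hccD a) (pow_four_of_not_oddAdj hD hfD (hccD a) h1)
        rw [show f * cc a * f = cc (-(a : ℤ)) from (orbitElt_reflect hD hfD hyD hcf a).1] at h2
        have h3 := htr (a : ℤ) h2.symm
        rwa [neg_add_cancel, show (a : ℤ) + a = ((a + a : ℕ) : ℤ) by push_cast; ring] at h3
      · have h1 : (y * cc a) ^ 4 = 1 := by
          rcases Nat.eq_zero_or_pos a with rfl | ha
          · rw [Nat.cast_zero, hcc0]
            exact pow_four_of_not_oddAdj hD hyD hcD (fun h1 => hyc (oddAdj_symm hD h1))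
          refine pow_four_of_not_oddAdj hD hyD (hccD a) fun hya => ?_
          have hcy4 : (c * y) ^ 2 ∈ D := by
            rcases hD.pair c hcD y hyD with h2 | h2 | ⟨-, h2⟩
            · exact absurd (hP y h2) (not_not.2 hyf)
            · exact absurd ⟨hcD, hyD, fun h3 => hP y (by rw [h3]) hyf, h2⟩ hyc
            · exact h2
          set m := (c * y) ^ 2 with hmdef
          have hm : m = cc 0 * cc (-1) := by
            rw [show cc (-1) = y * cc 0 * y by rw [(orbitElt_reflect hD hfD hyD hcf 0).2]; rfl, hcc0, hmdef, pow_two]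
            simp only [mul_assoc]
          have hmy : y * m = m * y := by
            have h3 : m⁻¹ = m := inv_of_mem hD hcy4
            rw [hmdef, pow_two, mul_inv_rev, mul_inv_rev, inv_of_mem hD hcD, inv_of_mem hD hyD] at h3
            conv_lhs => rw [hmdef, pow_two]
            conv_rhs => rw [hmdef, pow_two, ← h3]
            simp only [mul_assoc]
          have hmyD : m * y ∈ D := by
            rw [hmdef, pow_two, show c * y * (c * y) * y = c * y * c⁻¹ by
              rw [inv_of_mem hD hcD]; simp only [mul_assoc, mul_self_of_mem hD hyD, mul_one]]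
            exact hD.conj_mem y hyD c
          refine not_exists_commuting hD hcy4 hmy hmyD hya ?_
          have h3 : Commute (cc a) m := by
            rw [hm]
            refine Commute.mul_right (ih a (by omega)).symm ?_
            have h5 := htr (-1) (ih (a + 1) (by omega))
            rw [zero_add, show ((a + 1 : ℕ) : ℤ) + -1 = a by push_cast; ring] at h5
            exact h5.symm
          exact h3.eq.symm
        have h2 := commute_conj_of_pow_four hD hyD (hccD a) h1
        rw [show y * cc a * y = cc (-(a : ℤ) - 1) from (orbitElt_reflect hD hfD hyD hcf a).2] at h2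
        have h3 := htr ((a : ℤ) + 1) h2.symm
        rwa [show -(a : ℤ) - 1 + (a + 1) = 0 by ring,
          show (a : ℤ) + (a + 1) = ((2 * a + 1 : ℕ) : ℤ) by push_cast; ring] at h3
  obtain ⟨n, hn | hn⟩ := Int.eq_nat_or_neg (j - i)
  · have h1 := htr i (hh n)
    rwa [zero_add, show (n : ℤ) + i = j by omega] at h1
  · have h1 := (htr j (hh n)).symm
    rwa [zero_add, show (n : ℤ) + j = i by omega] at h1

/-- A member commuting with `f`, with product a member, is a square of a product with `f`. -/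
theorem exists_square_root [Finite G] (hD : IsRootInvolutionSet D) {c f y : G} (hcD : c ∈ D)
    (hne : c ≠ f) (hcf : c * f = f * c) (hcfD : c * f ∈ D) (hyf : OddAdj D f y) (hyc : ¬ OddAdj D c y) :
    ∃ h ∈ D, orderOf (f * h) = 4 ∧ (f * h) ^ 2 = c := by
  have hfD := hyf.1
  have hyD := hyf.2.1
  set u := f * y with hu
  set V := Subgroup.closure (Set.range (orbitElt c f y)) with hVdef
  have hcV : c ∈ V := Subgroup.subset_closure ⟨0, orbitElt_zero c f y⟩
  have hcomm : ∀ v ∈ V, ∀ w ∈ V, Commute v w := by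
    intro v hv w hw
    induction hv, hw using Subgroup.closure_induction₂ with
    | mem x z hx hz =>
      obtain ⟨i, rfl⟩ := hx
      obtain ⟨j, rfl⟩ := hz
      exact orbitElt_commute hD hcD hcf hcfD hyf hyc i j
    | one_left => exact Commute.one_left _
    | one_right => exact Commute.one_right _
    | mul_left _ _ _ _ _ _ h1 h2 => exact h1.mul_left h2
    | mul_right _ _ _ _ _ _ h1 h2 => exact h1.mul_right h2
    | inv_left _ _ _ _ h => exact h.inv_left
    | inv_right _ _ _ _ h => exact h.inv_right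
  have hsq : ∀ v ∈ V, v * v = 1 := by
    intro v hv
    induction hv using Subgroup.closure_induction with
    | mem x hx => obtain ⟨i, rfl⟩ := hx; exact mul_self_of_mem hD (orbitElt_mem hD hcD f y i)
    | one => exact one_mul 1
    | mul a b ha hb h1 h2 =>
      rw [((hcomm b hb a ha).mul_mul_mul_comm a b :), h1, h2, one_mul]
    | inv a _ h1 => rw [← mul_inv_rev, h1, inv_one]
  have hinv : ∀ g : G, (∀ i, g * orbitElt c f y i * g⁻¹ ∈ V) → ∀ v ∈ V, g * v * g⁻¹ ∈ V := by
    intro g hg v hv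
    induction hv using Subgroup.closure_induction with
    | mem x hx => obtain ⟨i, rfl⟩ := hx; exact hg i
    | one => simpa using V.one_mem
    | mul a b _ _ ha hb => rw [← conj_mul]; exact V.mul_mem ha hb
    | inv a _ ha => rw [← conj_inv]; exact V.inv_mem ha
  have hfV : ∀ v ∈ V, f * v * f ∈ V := fun v hv => by
    have := hinv f (fun i => Subgroup.subset_closure ⟨-i, by
      rw [inv_of_mem hD hfD, (orbitElt_reflect hD hfD hyD hcf i).1]⟩) v hv
    rwa [inv_of_mem hD hfD] at this
  have hyV : ∀ v ∈ V, y * v * y ∈ V := fun v hv => by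
    have := hinv y (fun i => Subgroup.subset_closure ⟨-i - 1, by
      rw [inv_of_mem hD hyD, (orbitElt_reflect hD hfD hyD hcf i).2]⟩) v hv
    rwa [inv_of_mem hD hyD] at this
  have huV : ∀ v ∈ V, u * v * u⁻¹ ∈ V := fun v hv => by
    have := hfV _ (hyV v hv)
    rwa [show f * (y * v * y) * f = u * v * u⁻¹ by
      rw [hu, mul_inv_rev, inv_of_mem hD hfD, inv_of_mem hD hyD]; simp only [mul_assoc]] at this
  have hupV : ∀ (m : ℕ), ∀ v ∈ V, u ^ m * v * (u ^ m)⁻¹ ∈ V := by
    intro m
    induction m with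
    | zero => simp
    | succ m ih =>
      intro v hv
      have := huV _ (ih v hv)
      rwa [show u * (u ^ m * v * (u ^ m)⁻¹) * u⁻¹ = u ^ (m + 1) * v * (u ^ (m + 1))⁻¹ by
        rw [pow_succ']; group] at this
  obtain ⟨k, hk⟩ := hyf.2.2.2
  rw [← hu] at hk
  have hun : u ^ (2 * k + 1) = 1 := by rw [← hk, pow_orderOf_eq_one]
  -- the norm of `v`
  let N : ℕ → G → G := fun m v => (v * u) ^ m * (u ^ m)⁻¹
  have hN1 : ∀ m v, N (m + 1) v = N m v * (u ^ m * v * (u ^ m)⁻¹) := fun m v => by
    show (v * u) ^ (m + 1) * (u ^ (m + 1))⁻¹ = (v * u) ^ m * (u ^ m)⁻¹ * (u ^ m * v * (u ^ m)⁻¹)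
    rw [pow_succ, pow_succ]; group
  have hNV : ∀ m, ∀ v ∈ V, N m v ∈ V := by
    intro m
    induction m with
    | zero => intro v _; simp [N]
    | succ m ih => intro v hv; rw [hN1]; exact V.mul_mem (ih v hv) (hupV m v hv)
  have hNmul : ∀ m, ∀ v ∈ V, ∀ w ∈ V, N m (v * w) = N m v * N m w := by
    intro m
    induction m with
    | zero => intro v _ w _; simp [N]
    | succ m ih =>
      intro v hv w hw
      rw [hN1, hN1, hN1, ih v hv w hw, ← conj_mul]
      exact ((hcomm _ (hNV m w hw) _ (hupV m v hv)).mul_mul_mul_comm _ _ :)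
  have hNc : N (2 * k + 1) c = 1 := by
    have h1 : N (2 * k + 1) c = (c * u) ^ (2 * k + 1) := by simp [N, hun]
    have h2 : Odd (orderOf (c * u)) := by
      rw [hu, ← mul_assoc]
      rcases edge_of_pair hD hcD hfD hcf.symm hne.symm hcfD hyf with h3 | h3
      · exact absurd (oddAdj_symm hD h3) hyc
      · exact (oddAdj_symm hD h3).2.2.2
    have h3 : (c * u) ^ (2 * k + 1) * (c * u) ^ (2 * k + 1) = 1 := by
      rw [← h1]; exact hsq _ (hNV _ c hcV)
    rw [h1, ← orderOf_dvd_iff_pow_eq_one]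
    refine (Nat.Coprime.dvd_mul_right (n := 2) h2.coprime_two_right).1 (orderOf_dvd_of_pow_eq_one ?_)
    rw [pow_mul, pow_two, h3]
  have hNu : ∀ v ∈ V, N (2 * k + 1) v = 1 → N (2 * k + 1) (u * v * u⁻¹) = 1 := by
    intro v _ h
    have h1 : ∀ w, N (2 * k + 1) w = (w * u) ^ (2 * k + 1) := fun w => by simp [N, hun]
    rw [h1] at h ⊢
    rw [show u * v * u⁻¹ * u = u * (v * u) * u⁻¹ by group, conj_pow, h, mul_one, mul_inv_cancel]
  have hNall : ∀ v ∈ V, N (2 * k + 1) v = 1 := by
    intro v hv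
    induction hv using Subgroup.closure_induction with
    | mem x hx =>
      obtain ⟨i, rfl⟩ := hx
      obtain ⟨m, hm⟩ : ∃ m : ℕ, orbitElt c f y i = u ^ m * c * (u ^ m)⁻¹ := by
        obtain ⟨m, hm⟩ := Submonoid.mem_powers_iff _ _ |>.1
          ((IsOfFinOrder.mem_powers_iff_mem_zpowers (isOfFinOrder_of_finite u)).2
            (Subgroup.zpow_mem_zpowers u i))
        exact ⟨m, by rw [hm]; rfl⟩
      rw [hm]
      clear hm
      induction m with
      | zero => simpa using hNc
      | succ m ih =>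
        rw [show u ^ (m + 1) * c * (u ^ (m + 1))⁻¹ = u * (u ^ m * c * (u ^ m)⁻¹) * u⁻¹ by rw [pow_succ']; group]
        exact hNu _ (hupV m c hcV) ih
    | one => simp [N, hun]
    | mul a b ha hb h1 h2 => rw [hNmul _ a ha b hb, h1, h2, one_mul]
    | inv a ha h1 =>
      rw [show a⁻¹ = a from inv_eq_of_mul_eq_one_right (hsq a ha)]
      exact h1
  have hfix : ∀ w ∈ V, f * w * f = w → y * w * y = w → w = 1 := by
    intro w hw h1 h2
    have h3 : Commute w u := by
      have hA : Commute w f := by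
        show w * f = f * w
        conv_lhs => rw [← h1]
        rw [mul_assoc, mul_self_of_mem hD hfD, mul_one]
      have hB : Commute w y := by
        show w * y = y * w
        conv_lhs => rw [← h2]
        rw [mul_assoc, mul_self_of_mem hD hyD, mul_one]
      exact hA.mul_right hB
    have h4 : N (2 * k + 1) w = w := by
      show (w * u) ^ (2 * k + 1) * (u ^ (2 * k + 1))⁻¹ = w
      rw [h3.mul_pow, mul_inv_cancel_right, pow_succ, pow_mul, pow_two, hsq w hw, one_pow, one_mul]
    rw [← h4, hNall w hw]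
  let Ω := {v : G // v ∈ D ∧ v ∈ V ∧ f * v * f = v}
  have hfour : ∀ z ∈ D, ∀ v ∈ V, v ∈ D → z * v * z ∈ V → z * v * z ≠ v →
      orderOf (z * v) = 4 ∧ (z * v) ^ 2 ∈ D ∧ (z * v) ^ 2 = z * v * z * v := by
    intro z hz v hv hvD hzv hne
    have hne' : z * v ≠ v * z := fun h => hne (by rw [h, mul_assoc, mul_self_of_mem hD hz, mul_one])
    rcases hD.pair z hz v hvD with h1 | h1 | h1
    · exact absurd h1 hne'
    · exfalso
      have h2 : (z * v) ^ 4 = 1 := by
        have h3 := (hcomm _ hzv v hv).eq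
        rw [show (4 : ℕ) = 2 + 2 from rfl, pow_add, pow_two]
        calc z * v * (z * v) * (z * v * (z * v)) = z * v * z * v * (z * v * z * v) := by simp only [mul_assoc]
          _ = v * (z * v * z) * (z * v * z * v) := by rw [h3]
          _ = 1 := by simp only [mul_assoc, mul_self_cancel hD hz, mul_self_cancel hD hvD, mul_self_of_mem hD hvD]
      have h7 : orderOf (z * v) = 1 :=
        Nat.eq_one_of_dvd_coprimes (by
          rw [show (4 : ℕ) = 2 ^ 2 from rfl]; exact (h1.coprime_two_right).pow_right _)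
          (dvd_refl _) (orderOf_dvd_of_pow_eq_one h2)
      rw [orderOf_eq_one_iff] at h7
      exact hne' (by rw [show v = z from (inv_eq_of_mul_eq_one_right h7).symm.trans (inv_of_mem hD hz)])
    · exact ⟨h1.1, h1.2, by rw [pow_two, ← mul_assoc]⟩
  have hone : ∀ v ∈ D, v ≠ 1 := fun v hv h => by
    have := hD.orderOf_eq v hv
    rw [h, orderOf_one] at this
    omega
  have hy4 : ∀ v : Ω, y * v.1 * y ≠ v.1 := fun v h => hone _ v.2.1 (hfix _ v.2.2.1 v.2.2.2 h)
  let H : Ω → G := fun v => y * v.1 * y * v.1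
  have hH : ∀ v : Ω, H v ∈ D ∧ H v ∈ V ∧ y * H v * y = H v := fun v => by
    obtain ⟨-, h2, h3⟩ := hfour y hyD v.1 v.2.2.1 v.2.1 (hyV _ v.2.2.1) (hy4 v)
    refine ⟨show y * v.1 * y * v.1 ∈ D from h3 ▸ h2, V.mul_mem (hyV _ v.2.2.1) v.2.2.1, ?_⟩
    show y * (y * v.1 * y * v.1) * y = y * v.1 * y * v.1
    conv_lhs => rw [(hcomm _ (hyV _ v.2.2.1) _ v.2.2.1).eq]
    simp only [mul_assoc, mul_self_of_mem hD hyD, mul_one]
  have hf4 : ∀ v : Ω, f * H v * f ≠ H v := fun v h => hone _ (hH v).1 (hfix _ (hH v).2.1 h (hH v).2.2)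
  have hK : ∀ v : Ω, orderOf (f * H v) = 4 ∧ (f * H v) ^ 2 ∈ D ∧ (f * H v) ^ 2 = f * H v * f * H v :=
    fun v => hfour f hfD _ (hH v).2.1 (hH v).1 (hfV _ (hH v).2.1) (hf4 v)
  let Φ : Ω → Ω := fun v => ⟨f * H v * f * H v, (hK v).2.2 ▸ (hK v).2.1,
    V.mul_mem (hfV _ (hH v).2.1) (hH v).2.1, by
      conv_lhs => rw [(hcomm _ (hfV _ (hH v).2.1) _ (hH v).2.1).eq]
      simp only [mul_assoc, mul_self_of_mem hD hfD, mul_one]⟩
  have hcancel : ∀ z : G, z * z = 1 → ∀ a ∈ V, ∀ b ∈ V, z * a * z ∈ V → z * b * z ∈ V →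
      z * a * z * a = z * b * z * b → z * (a * b) * z = a * b := by
    intro z hz a ha b hb hza hzb h
    have h1 : z * (a * b) * z = z * a * z * (z * b * z) := by
      simp only [mul_assoc]; rw [← mul_assoc z z (b * z), hz, one_mul]
    calc z * (a * b) * z = z * a * z * (z * b * z) := h1
      _ = z * a * z * a * a * (z * b * z * b * b) := by
          rw [mul_assoc (z * a * z), hsq a ha, mul_one, mul_assoc (z * b * z), hsq b hb, mul_one]
      _ = (z * b * z * b) * (z * b * z * b) * (a * b) := by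
          rw [h]
          have hX : z * b * z * b ∈ V := V.mul_mem hzb hb
          generalize hXd : z * b * z * b = X at hX
          rw [mul_assoc X a, ← mul_assoc a X b, (hcomm a ha X hX).eq]
          simp only [mul_assoc]
      _ = a * b := by rw [hsq _ (V.mul_mem hzb hb), one_mul]
  have hinj : Function.Injective Φ := by
    intro v w hvw
    have h1 : f * H v * f * H v = f * H w * f * H w := congrArg Subtype.val hvw
    have h2 : H v * H w = 1 := hfix _ (V.mul_mem (hH v).2.1 (hH w).2.1)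
      (hcancel f (mul_self_of_mem hD hfD) _ (hH v).2.1 _ (hH w).2.1 (hfV _ (hH v).2.1) (hfV _ (hH w).2.1) h1) (by
      conv_rhs => rw [← (hH v).2.2, ← (hH w).2.2]
      simp only [mul_assoc]
      rw [mul_self_cancel hD hyD])
    have h3 : H v = H w := by
      rw [← inv_of_mem hD (hH v).1]; exact inv_eq_of_mul_eq_one_right h2
    have h4 : v.1 * w.1 = 1 := hfix _ (V.mul_mem v.2.2.1 w.2.2.1) (by
      conv_rhs => rw [← v.2.2.2, ← w.2.2.2]
      simp only [mul_assoc]
      rw [mul_self_cancel hD hfD])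
      (hcancel y (mul_self_of_mem hD hyD) _ v.2.2.1 _ w.2.2.1 (hyV _ v.2.2.1) (hyV _ w.2.2.1) h3)
    exact Subtype.ext (by rw [← inv_of_mem hD v.2.1]; exact inv_eq_of_mul_eq_one_right h4)
  obtain ⟨v, hv⟩ := (Finite.injective_iff_surjective.1 hinj) ⟨c, hcD, hcV, by
    rw [← hcf, mul_assoc, mul_self_of_mem hD hfD, mul_one]⟩
  exact ⟨H v, (hH v).1, (hK v).1, (hK v).2.2.trans (congrArg Subtype.val hv)⟩

/-- A product partner outside the class gives a member with product of order three. -/
theorem exists_fourPartner_order_three [Finite G] (hD : IsRootInvolutionSet D)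
    (hc : IsConnectedSet (OddAdj D) D) {a b : G} (ha : a ∈ D) (hb : b ∈ productPartners D a)
    (hbE : b ∉ sameCommutingClass D a) : ∃ x ∈ fourPartners D b, orderOf (a * x) = 3 := by
  obtain ⟨⟨hbD, hba, hne⟩, hbaD⟩ := hb
  have hex : ∀ p q : G, p ∈ D → q ∈ D → commutingMembers D p ≠ commutingMembers D q →
      ∃ y, OddAdj D p y ∧ ¬ OddAdj D q y := by
    intro p q hp hq hpq
    by_contra hh
    push Not at hh
    have h1 : oddPartners D p = oddPartners D q := by
      refine Set.eq_of_subset_of_ncard_le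
        (fun x hx => (mem_oddPartners_iff hq).2 (hh x ((mem_oddPartners_iff hp).1 hx))) ?_ (Set.toFinite _)
      obtain ⟨g, hg⟩ := exists_conj_of_connected hD hc hq hp
      rw [hg, ncard_oddPartners_conj hD]
    exact hpq ((commutingMembers_subset_of_oddPartners_eq hD hc hp hq h1).antisymm
      (commutingMembers_subset_of_oddPartners_eq hD hc hq hp h1.symm))
  obtain ⟨y, hy1, hy2⟩ := hex a b ha hbD (fun h => hbE ⟨hbD, h⟩)
  obtain ⟨h, hhD, h4, hsq⟩ := exists_square_root hD hbD hne hba hbaD hy1 hy2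
  have hah : a * h ≠ h * a := fun e => by
    have h1 : (a * h) ^ 2 = 1 := by
      have h3 : Commute a h := e
      rw [h3.mul_pow, pow_two a, pow_two h, mul_self_of_mem hD ha, mul_self_of_mem hD hhD, one_mul]
    have := hD.orderOf_eq b hbD
    rw [← hsq, h1, orderOf_one] at this
    omega
  have hc1 : Commute h (a * h * a) := commute_conj_of_pow_four hD ha hhD (by rw [← h4, pow_orderOf_eq_one])
  have hb' : b = a * h * a * h := by rw [← hsq, pow_two, ← mul_assoc]
  have hbh : Commute b h := by rw [hb']; exact hc1.symm.mul_left (Commute.refl h)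
  have hbh' : b * h = a * h * a := by rw [hb', mul_assoc, mul_self_of_mem hD hhD, mul_one]
  have hahD : a * h * a ∈ D := by simpa [inv_of_mem hD ha] using hD.conj_mem h hhD a
  have hneh : h ≠ b := fun e => hah (by rw [e, ← hba])
  obtain ⟨z, hz1, hz2⟩ := hex b h hbD hhD (fun e => hah
    ((Set.ext_iff.1 e a).1 ⟨ha, hba.symm⟩).2)
  obtain ⟨x, hxD, hx4, hxsq⟩ := exists_square_root hD hhD hneh hbh.eq.symm
    (by rw [← hbh.eq, hbh']; exact hahD) hz1 hz2
  refine ⟨x, ⟨hxD, hx4⟩, ?_⟩
  have ha2 := mul_self_of_mem hD ha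
  have hx2 := mul_self_of_mem hD hxD
  have hc2 : Commute x (b * x * b) := commute_conj_of_pow_four hD hbD hxD (by rw [← hx4, pow_orderOf_eq_one])
  have hh' : h = b * x * b * x := by rw [← hxsq, pow_two, ← mul_assoc]
  have hxh : Commute x h := by rw [hh']; exact hc2.mul_right (Commute.refl x)
  have hxb : x * b * x = b * h := by
    rw [hh']; simp only [mul_assoc]; rw [mul_self_cancel hD hbD]
  -- `a * x` permutes `b`, `h`, `b * h` cyclically
  set u := a * x with hu
  have huinv : u⁻¹ = x * a := by rw [hu, mul_inv_rev, inv_of_mem hD ha, inv_of_mem hD hxD]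
  have e1 : u * b * u⁻¹ = h := by
    rw [huinv, hu]
    calc a * x * b * (x * a) = a * (x * b * x) * a := by simp only [mul_assoc]
      _ = h := by rw [hxb, hbh']; simp only [mul_assoc, ha2, mul_one]; rw [mul_self_cancel hD ha]
  have e2 : u * h * u⁻¹ = b * h := by
    rw [huinv, hu, hbh']
    calc a * x * h * (x * a) = a * (x * h) * x * a := by simp only [mul_assoc]
      _ = a * h * a := by rw [hxh.eq]; simp only [mul_assoc]; rw [mul_self_cancel hD hxD]
  have e3 : u ^ 2 * b * (u ^ 2)⁻¹ = b * h := by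
    rw [pow_two, show u * u * b * (u * u)⁻¹ = u * (u * b * u⁻¹) * u⁻¹ by group, e1, e2]
  have e4 : u ^ 3 * b * (u ^ 3)⁻¹ = b := by
    rw [show u ^ 3 * b * (u ^ 3)⁻¹ = u * (u ^ 2 * b * (u ^ 2)⁻¹) * u⁻¹ by group, e3, ← conj_mul, e1, e2,
      ← mul_assoc, ← hbh.eq, mul_assoc, mul_self_of_mem hD hhD, mul_one]
  have hne1 : ¬ orderOf u ∣ 4 := by
    intro hd
    have h1 : u ^ 4 = 1 := orderOf_dvd_iff_pow_eq_one.1 hd
    have h2 : u * b * u⁻¹ = b := by
      conv_lhs => rw [← e4]
      rw [show u * (u ^ 3 * b * (u ^ 3)⁻¹) * u⁻¹ = u ^ 4 * b * (u ^ 4)⁻¹ by group, h1, one_mul, inv_one, mul_one]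
    exact hneh (e1.symm.trans h2)
  have hodd : Odd (orderOf u) := by
    rcases hD.pair a ha x hxD with h1 | h1 | ⟨h1, -⟩
    · refine absurd (orderOf_dvd_of_pow_eq_one ?_) hne1
      have h3 : Commute a x := h1
      rw [hu, h3.mul_pow, show (4 : ℕ) = 2 * 2 from rfl, pow_mul, pow_mul, pow_two a, pow_two x, ha2, hx2,
        one_pow, one_mul]
    · exact h1
    · exact absurd (by rw [hu, h1]) hne1
  set r := u ^ 3 * a * (u ^ 3)⁻¹ with hr
  have hrb : b * r = r * b := by
    have h1 : Commute (u ^ 3) b := by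
      show u ^ 3 * b = b * u ^ 3
      conv_rhs => rw [← e4]
      rw [inv_mul_cancel_right]
    exact ((h1.symm.mul_right (hba : Commute b a)).mul_right h1.symm.inv_right).eq
  have hua : a * u ^ 3 * a⁻¹ = (u ^ 3)⁻¹ := by
    rw [← conj_pow, ← inv_pow, huinv, hu, inv_of_mem hD ha]
    congr 1
    rw [← mul_assoc a a x, ha2, one_mul]
  have har : a * r = ((u ^ 3) ^ 2)⁻¹ := by
    rw [hr, pow_two, mul_inv_rev, show a * (u ^ 3 * a * (u ^ 3)⁻¹) = a * u ^ 3 * a * (u ^ 3)⁻¹ by
      simp only [mul_assoc]]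
    conv_lhs => rw [show a * u ^ 3 * a = a * u ^ 3 * a⁻¹ by rw [inv_of_mem hD ha], hua]
  have hreq : r = a := by
    by_contra hra
    refine not_exists_commuting hD hbD hba.symm (hbaD) ⟨ha, hD.conj_mem a ha _, fun e => hra e.symm, ?_⟩ hrb
    rw [har, orderOf_inv, ← pow_mul]
    exact hodd.of_dvd_nat (orderOf_pow_dvd _)
  have h6 : u ^ 6 = 1 := by
    rw [hreq, ha2, eq_comm, inv_eq_one, ← pow_mul] at har
    exact har
  have h3 : orderOf u ∣ 3 :=
    (Nat.Coprime.dvd_mul_right (n := 2) hodd.coprime_two_right).1 (orderOf_dvd_of_pow_eq_one (by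
      rw [show 3 * 2 = 6 from rfl]; exact h6))
  rcases (Nat.dvd_prime Nat.prime_three).1 h3 with h5 | h5
  · exact absurd (by rw [h5]; norm_num) hne1
  · exact h5

end Cfsg.Lib.RootInvol
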