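import Cfsg.Agent.Lib.RootInvol.Braid

/-!
# The subgroup generated by the members isolated in the centraliser of a member
-/

set_option autoImplicit false

namespace Cfsg.Lib.RootInvol

open Cfsg
open scoped commutatorElement

variable {G : Type*} [Group G] {D : Set G}

/-- `y` commutes with `d` and has product of odd order with no other member commuting with `d`. -/
def Iso (D : Set G) (d y : G) : Prop :=
  y ∈ D ∧ y * d = d * y ∧ ∀ t ∈ D, t * d = d * t → ¬ OddAdj D y t

/-- The subgroup generated by the members isolated for `d`. -/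
def rad (D : Set G) (d : G) : Subgroup G := Subgroup.closure {y | Iso D d y}

theorem iso_self (hD : IsRootInvolutionSet D) {d : G} (hd : d ∈ D) : Iso D d d :=
  ⟨hd, rfl, fun _ _ h h' => not_commute_of_oddAdj hD h' h.symm⟩

theorem iso_of_mul_mem (hD : IsRootInvolutionSet D) {d y : G} (hd : d ∈ D) (hy : y ∈ D)
    (hyd : y * d = d * y) (h : y * d ∈ D) : Iso D d y :=
  ⟨hy, hyd, fun _ _ ht h' => not_exists_commuting hD hd hyd (hyd ▸ h) h' ht.symm⟩

theorem iso_of_partner (hD : IsRootInvolutionSet D) {d y : G} (hd : d ∈ D) (hy : y ∈ productPartners D d) :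
    Iso D d y :=
  iso_of_mul_mem hD hd hy.1.1 hy.1.2.1 hy.2

theorem iso_congr {d e y : G} (h : commutingMembers D d = commutingMembers D e) :
    Iso D d y → Iso D e y := by
  rintro ⟨hy, hyd, ht⟩
  exact ⟨hy, ((Set.ext_iff.1 h y).1 ⟨hy, hyd⟩).2, fun t htD hte =>
    ht t htD ((Set.ext_iff.1 h t).2 ⟨htD, hte⟩).2⟩

theorem rad_congr {d e : G} (h : commutingMembers D d = commutingMembers D e) : rad D d = rad D e := by
  unfold rad
  congr 1
  exact Set.ext fun y => ⟨iso_congr h, iso_congr h.symm⟩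

theorem iso_pair (hD : IsRootInvolutionSet D) {d u v : G} (hu : Iso D d u) (hv : Iso D d v) :
    (u * v) ^ 4 = 1 :=
  pow_four_of_not_oddAdj hD hu.1 hv.1 (hu.2.2 v hv.1 hv.2.1)

theorem commute_of_mem_rad {d w : G} (hw : w ∈ rad D d) : Commute w d := by
  induction hw using Subgroup.closure_induction with
  | mem x hx => exact hx.2.1
  | one => exact Commute.one_left d
  | mul _ _ _ _ h1 h2 => exact h1.mul_left h2
  | inv _ _ h => exact h.inv_left

theorem conj_mul_comm {g a b : G} (h : a * b = b * a) :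
    g * a * g⁻¹ * (g * b * g⁻¹) = g * b * g⁻¹ * (g * a * g⁻¹) := by
  rw [show g * a * g⁻¹ * (g * b * g⁻¹) = g * (a * b) * g⁻¹ by group, h]
  group

theorem oddAdj_conj (hD : IsRootInvolutionSet D) {a b : G} (h : OddAdj D a b) (g : G) :
    OddAdj D (g * a * g⁻¹) (g * b * g⁻¹) := by
  refine ⟨hD.conj_mem a h.1 g, hD.conj_mem b h.2.1 g, fun e => h.2.2.1 ?_, ?_⟩
  · exact mul_left_cancel (mul_right_cancel e)
  · rw [show g * a * g⁻¹ * (g * b * g⁻¹) = MulAut.conj g (a * b) by rw [MulAut.conj_apply]; group,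
      MulEquiv.orderOf_eq]
    exact h.2.2.2

theorem iso_conj (hD : IsRootInvolutionSet D) {d y : G} (h : Iso D d y) (g : G) :
    Iso D (g * d * g⁻¹) (g * y * g⁻¹) := by
  refine ⟨hD.conj_mem y h.1 g, conj_mul_comm h.2.1, fun t ht htd hodd => ?_⟩
  refine h.2.2 (g⁻¹ * t * g⁻¹⁻¹) (hD.conj_mem t ht _) ?_ ?_
  · have := conj_mul_comm (g := g⁻¹) htd
    rwa [show g⁻¹ * (g * d * g⁻¹) * g⁻¹⁻¹ = d by group] at this
  · have := oddAdj_conj hD hodd g⁻¹
    rwa [show g⁻¹ * (g * y * g⁻¹) * g⁻¹⁻¹ = y by group] at this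

theorem map_rad (hD : IsRootInvolutionSet D) (d g : G) :
    (rad D d).map (MulAut.conj g).toMonoidHom = rad D (g * d * g⁻¹) := by
  unfold rad
  rw [MonoidHom.map_closure]
  congr 1
  ext w
  constructor
  · rintro ⟨y, hy, rfl⟩
    exact iso_conj hD hy g
  · intro hw
    refine ⟨g⁻¹ * w * g⁻¹⁻¹, ?_, by simp [mul_assoc]⟩
    have := iso_conj hD hw g⁻¹
    rwa [show g⁻¹ * (g * d * g⁻¹) * g⁻¹⁻¹ = d by group] at this

theorem map_lower (hD : IsRootInvolutionSet D) (d g : G) (k : ℕ) :
    ((rad D d).lowerCentralSeries k).map (MulAut.conj g).toMonoidHom =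
      (rad D (g * d * g⁻¹)).lowerCentralSeries k := by
  induction k with
  | zero => exact map_rad hD d g
  | succ k ih =>
    rw [Subgroup.lowerCentralSeries_succ, Subgroup.lowerCentralSeries_succ, Subgroup.map_commutator, ih,
      map_rad hD]

theorem lower_conj_mem (hD : IsRootInvolutionSet D) {d w : G} {k : ℕ}
    (hw : w ∈ (rad D d).lowerCentralSeries k) (g : G) :
    g * w * g⁻¹ ∈ (rad D (g * d * g⁻¹)).lowerCentralSeries k := by
  rw [← map_lower hD]
  exact ⟨w, hw, rfl⟩

theorem lower_conj_self (hD : IsRootInvolutionSet D) {d w g : G} {k : ℕ}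
    (hw : w ∈ (rad D d).lowerCentralSeries k) (hg : g * d = d * g) :
    g * w * g⁻¹ ∈ (rad D d).lowerCentralSeries k := by
  have := lower_conj_mem hD hw g
  rwa [hg, mul_inv_cancel_right] at this

theorem lower_le_rad (d : G) (k : ℕ) : (rad D d).lowerCentralSeries k ≤ rad D d :=
  (rad D d).lowerCentralSeries_antitone (Nat.zero_le k)

theorem commutator_mem_lower_succ {d u v : G} {k : ℕ} (hu : u ∈ (rad D d).lowerCentralSeries k)
    (hv : v ∈ rad D d) : ⁅u, v⁆ ∈ (rad D d).lowerCentralSeries (k + 1) :=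
  Subgroup.commutator_mem_commutator hu hv

theorem commutator_mem_lower_succ' {d u v : G} {k : ℕ} (hu : u ∈ rad D d)
    (hv : v ∈ (rad D d).lowerCentralSeries k) : ⁅u, v⁆ ∈ (rad D d).lowerCentralSeries (k + 1) := by
  rw [← commutatorElement_inv]
  exact Subgroup.inv_mem _ (commutator_mem_lower_succ hv hu)

theorem isPGroup_rad [Finite G] (hD : IsRootInvolutionSet D) (d : G) : IsPGroup 2 ↥(rad D d) := by
  haveI : Fact (Nat.Prime 2) := ⟨Nat.prime_two⟩
  set C := commutingMembers D d with hC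
  set H := Subgroup.closure C with hH
  set D' : Set ↥H := {w | (w : G) ∈ C} with hD'
  have hconjC : ∀ g ∈ H, g * d = d * g := by
    intro g hg
    have : Commute g d := by
      induction hg using Subgroup.closure_induction with
      | mem x hx => exact hx.2
      | one => exact Commute.one_left d
      | mul _ _ _ _ h1 h2 => exact h1.mul_left h2
      | inv _ _ h => exact h.inv_left
    exact this
  have hCconj : ∀ e ∈ C, ∀ g : G, g * d = d * g → g * e * g⁻¹ ∈ C := by
    intro e he g hg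
    refine ⟨hD.conj_mem e he.1 g, ?_⟩
    have := conj_mul_comm (g := g) he.2
    rwa [hg, mul_inv_cancel_right] at this
  have hD'r : IsRootInvolutionSet D' := by
    refine ⟨fun w hw => ?_, ?_, fun w hw g => ?_, fun u hu v hv => ?_⟩
    · rw [← Subgroup.orderOf_coe]
      exact hD.orderOf_eq _ hw.1
    · rw [← Subgroup.map_injective H.subtype_injective |>.eq_iff, MonoidHom.map_closure,
        ← MonoidHom.range_eq_map, Subgroup.range_subtype]
      congr 1
      ext x
      exact ⟨fun ⟨y, hy, e⟩ => e ▸ hy, fun hx => ⟨⟨x, Subgroup.subset_closure hx⟩, hx, rfl⟩⟩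
    · exact hCconj _ hw _ (hconjC _ g.2)
    · rcases hD.pair _ hu.1 _ hv.1 with h | h | ⟨h4, hsq⟩
      · exact Or.inl (Subtype.ext h)
      · refine Or.inr (Or.inl ?_)
        rw [← Subgroup.orderOf_coe]
        exact h
      · refine Or.inr (Or.inr ⟨?_, hsq, ?_⟩)
        · rw [← Subgroup.orderOf_coe]
          exact h4
        · exact ((Commute.mul_left (hu.2 : Commute (u : G) d) (hv.2 : Commute (v : G) d)).pow_left 2).eq
  have hle : rad D d ≤ (Cfsg.pCore 2 ↥H).map H.subtype := by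
    refine (Subgroup.closure_le _).2 fun y hy => ?_
    refine ⟨⟨y, Subgroup.subset_closure ⟨hy.1, hy.2.1⟩⟩, mem_pCore_of_isolated hD'r ⟨⟨hy.1, hy.2.1⟩, ?_⟩, rfl⟩
    intro b
    have key : ¬ OddAdj D' ⟨y, Subgroup.subset_closure ⟨hy.1, hy.2.1⟩⟩ b := by
      rintro ⟨-, hb, hne, hodd⟩
      refine hy.2.2 b hb.1 hb.2 ⟨hy.1, hb.1, fun e => hne (Subtype.ext e), ?_⟩
      rw [← Subgroup.orderOf_coe] at hodd
      exact hodd
    exact ⟨key, fun h => key (oddAdj_symm hD'r h)⟩
  exact ((Cfsg.Lib.Core.pCore_isPGroup 2 ↥H).map H.subtype).to_le hle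

theorem iso_of_mem_rad [Finite G] (hD : IsRootInvolutionSet D) {d y : G} (hy : y ∈ rad D d)
    (hyD : y ∈ D) : Iso D d y := by
  refine ⟨hyD, (commute_of_mem_rad hy).eq, fun t ht htd hodd => ?_⟩
  have h1 : (y * t) ^ 2 ∈ rad D d := by
    rw [pow_two, show y * t * (y * t) = y * (t * y * t⁻¹) by
      rw [inv_of_mem hD ht]; simp only [mul_assoc]]
    refine Subgroup.mul_mem _ hy ?_
    have : t * y * t⁻¹ ∈ rad D (t * d * t⁻¹) := map_rad hD d t ▸ ⟨y, hy, rfl⟩
    rwa [htd, mul_inv_cancel_right] at this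
  obtain ⟨k, hk⟩ := isPGroup_rad hD d ⟨_, h1⟩
  have h2 : (y * t) ^ (2 * 2 ^ k) = 1 := by rw [pow_mul]; exact congrArg Subtype.val hk
  have h3 : orderOf (y * t) = 1 := by
    refine Nat.eq_one_of_dvd_coprimes ?_ (dvd_refl (orderOf (y * t))) (orderOf_dvd_of_pow_eq_one h2)
    rw [← pow_succ']
    exact (hodd.2.2.2.coprime_two_right).pow_right _
  rw [orderOf_eq_one_iff] at h3
  exact hodd.2.2.1 (by rw [← inv_of_mem hD hodd.1]; exact (eq_inv_of_mul_eq_one_right h3).symm)

theorem exists_lower_eq_bot [Finite G] (hD : IsRootInvolutionSet D) (d : G) :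
    ∃ k, (rad D d).lowerCentralSeries k = ⊥ := by
  haveI : Fact (Nat.Prime 2) := ⟨Nat.prime_two⟩
  exact (Subgroup.isNilpotent_iff_lowerCentralSeries (rad D d)).1 (isPGroup_rad hD d).isNilpotent

/-- A criterion for a commutator subgroup of closures. -/
theorem commutator_closure_le {S T : Set G} {M : Subgroup G}
    (hS : ∀ g ∈ Subgroup.closure S, ∀ w ∈ M, g * w * g⁻¹ ∈ M)
    (hT : ∀ g ∈ Subgroup.closure T, ∀ w ∈ M, g * w * g⁻¹ ∈ M)
    (h : ∀ s ∈ S, ∀ t ∈ T, ⁅s, t⁆ ∈ M) : ⁅Subgroup.closure S, Subgroup.closure T⁆ ≤ M := by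
  rw [Subgroup.commutator_le]
  intro u hu v hv
  induction hv using Subgroup.closure_induction with
  | one => simp
  | mul x y hx _ h1 h2 =>
    rw [show ⁅u, x * y⁆ = ⁅u, x⁆ * (x * ⁅u, y⁆ * x⁻¹) by
      simp only [commutatorElement_def]; group]
    exact M.mul_mem h1 (hT x hx _ h2)
  | inv x hx h1 =>
    rw [show ⁅u, x⁻¹⁆ = x⁻¹ * ⁅u, x⁆⁻¹ * x⁻¹⁻¹ by simp only [commutatorElement_def]; group]
    exact hT _ ((Subgroup.closure T).inv_mem hx) _ (M.inv_mem h1)
  | mem t ht =>
    induction hu using Subgroup.closure_induction with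
    | one => simp
    | mem s hs => exact h s hs t ht
    | mul x y hx _ h1 h2 =>
      rw [show ⁅x * y, t⁆ = x * ⁅y, t⁆ * x⁻¹ * ⁅x, t⁆ by simp only [commutatorElement_def]; group]
      exact M.mul_mem (hS x hx _ h2) h1
    | inv x hx h1 =>
      rw [show ⁅x⁻¹, t⁆ = x⁻¹ * ⁅x, t⁆⁻¹ * x⁻¹⁻¹ by simp only [commutatorElement_def]; group]
      exact hS _ ((Subgroup.closure S).inv_mem hx) _ (M.inv_mem h1)

theorem commutator_eq_sq (hD : IsRootInvolutionSet D) {a b : G} (ha : a ∈ D) (hb : b ∈ D) :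
    ⁅a, b⁆ = (a * b) ^ 2 := by
  rw [commutatorElement_def, sq_mul, inv_of_mem hD ha, inv_of_mem hD hb]

theorem commutator_mem_or_eq_one (hD : IsRootInvolutionSet D) {d a b : G} (ha : Iso D d a)
    (hb : Iso D d b) : ⁅a, b⁆ = 1 ∨ (⁅a, b⁆ ∈ D ∧ orderOf (a * b) = 4) := by
  by_cases h : a * b = b * a
  · exact Or.inl (commutatorElement_eq_one_iff_mul_comm.2 h)
  · obtain ⟨h4, hsq⟩ := four_of_not_commute hD ha.1 hb.1 h (ha.2.2 b hb.1 hb.2.1)
    exact Or.inr ⟨commutator_eq_sq hD ha.1 hb.1 ▸ hsq, h4⟩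

/-- Each term of the series is generated by the members in it. -/
theorem lower_le_closure [Finite G] (hD : IsRootInvolutionSet D) (d : G) (k : ℕ) :
    (rad D d).lowerCentralSeries k ≤ Subgroup.closure {y | y ∈ D ∧ y ∈ (rad D d).lowerCentralSeries k} := by
  induction k with
  | zero => exact Subgroup.closure_mono fun y hy => ⟨hy.1, Subgroup.subset_closure hy⟩
  | succ k ih =>
    set M := Subgroup.closure {y | y ∈ D ∧ y ∈ (rad D d).lowerCentralSeries (k + 1)} with hM
    have hnorm : ∀ g ∈ rad D d, ∀ w ∈ M, g * w * g⁻¹ ∈ M := by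
      intro g hg w hw
      have : M.map (MulAut.conj g).toMonoidHom ≤ M := by
        rw [hM, MonoidHom.map_closure, Subgroup.closure_le]
        rintro _ ⟨y, hy, rfl⟩
        exact Subgroup.subset_closure
          ⟨hD.conj_mem y hy.1 g, lower_conj_self hD hy.2 (commute_of_mem_rad hg).eq⟩
      exact this ⟨w, hw, rfl⟩
    refine (Subgroup.commutator_mono ih le_rfl).trans (commutator_closure_le ?_ hnorm ?_)
    · exact fun g hg => hnorm g (lower_le_rad d k ((Subgroup.closure_le _).2 (fun y hy => hy.2) hg))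
    · rintro a ⟨haD, ha⟩ b hb
      rcases commutator_mem_or_eq_one hD (iso_of_mem_rad hD (lower_le_rad d k ha) haD) hb with h | h
      · rw [h]; exact M.one_mem
      · exact Subgroup.subset_closure ⟨h.1, commutator_mem_lower_succ ha (Subgroup.subset_closure hb)⟩

/-- The hypothesis `E(d) = E_d ∪ {1}`. -/
def ClassClosed (D : Set G) : Prop :=
  ∀ d ∈ D, (sameCommutingSubgroup D d : Set G) = sameCommutingClass D d ∪ {1}

theorem mem_sub_iff (hE : ClassClosed D) {d x : G} (hd : d ∈ D) :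
    x ∈ sameCommutingSubgroup D d ↔ (x ∈ D ∧ commutingMembers D d = commutingMembers D x) ∨ x = 1 := by
  rw [← SetLike.mem_coe, hE d hd]; rfl

theorem class_mem_sub {d e : G} (he : e ∈ D) (h : commutingMembers D d = commutingMembers D e) :
    e ∈ sameCommutingSubgroup D d :=
  Subgroup.subset_closure ⟨he, h⟩

theorem self_mem_sub {d : G} (hd : d ∈ D) : d ∈ sameCommutingSubgroup D d := class_mem_sub hd rfl

theorem iso_of_class (hD : IsRootInvolutionSet D) {d e : G} (he : e ∈ D)
    (h : commutingMembers D d = commutingMembers D e) : Iso D d e :=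
  iso_congr h.symm (iso_self hD he)

theorem sub_le_rad (hD : IsRootInvolutionSet D) (d : G) : sameCommutingSubgroup D d ≤ rad D d :=
  Subgroup.closure_mono fun _ he => iso_of_class hD he.1 he.2

theorem sub_central {d x w : G} (hx : x ∈ sameCommutingSubgroup D d)
    (hw : w ∈ rad D d) : Commute x w := by
  induction hw using Subgroup.closure_induction with
  | mem y hy =>
    induction hx using Subgroup.closure_induction with
    | mem e he => exact ((Set.ext_iff.1 he.2 y).1 ⟨hy.1, hy.2.1⟩).2.symm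
    | one => exact Commute.one_left _
    | mul _ _ _ _ h1 h2 => exact h1.mul_left h2
    | inv _ _ h => exact h.inv_left
  | one => exact Commute.one_right _
  | mul _ _ _ _ h1 h2 => exact h1.mul_right h2
  | inv _ _ h => exact h.inv_right

theorem sub_congr {d e : G} (h : commutingMembers D d = commutingMembers D e) :
    sameCommutingSubgroup D d = sameCommutingSubgroup D e := by
  unfold sameCommutingSubgroup
  congr 1
  exact Set.ext fun y => ⟨fun hy => ⟨hy.1, h.symm.trans hy.2⟩, fun hy => ⟨hy.1, h.trans hy.2⟩⟩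

theorem map_sub (hD : IsRootInvolutionSet D) (d g : G) :
    (sameCommutingSubgroup D d).map (MulAut.conj g).toMonoidHom =
      sameCommutingSubgroup D (g * d * g⁻¹) := by
  have hC : ∀ (h a : G), commutingMembers D (h * a * h⁻¹) =
      (fun t => h * t * h⁻¹) '' commutingMembers D a := by
    intro h a
    ext t
    constructor
    · intro ht
      refine ⟨h⁻¹ * t * h⁻¹⁻¹, ⟨hD.conj_mem t ht.1 _, ?_⟩, by group⟩
      have := conj_mul_comm (g := h⁻¹) ht.2
      rwa [show h⁻¹ * (h * a * h⁻¹) * h⁻¹⁻¹ = a by group] at this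
    · rintro ⟨u, hu, rfl⟩
      exact ⟨hD.conj_mem u hu.1 h, conj_mul_comm hu.2⟩
  unfold sameCommutingSubgroup
  rw [MonoidHom.map_closure]
  congr 1
  ext w
  constructor
  · rintro ⟨y, hy, rfl⟩
    refine ⟨hD.conj_mem y hy.1 g, ?_⟩
    show _ = commutingMembers D (g * y * g⁻¹)
    rw [hC, hC, hy.2]
  · intro hw
    refine ⟨g⁻¹ * w * g⁻¹⁻¹, ⟨hD.conj_mem w hw.1 _, ?_⟩, by simp [mul_assoc]⟩
    rw [hC g⁻¹ w, ← hw.2, ← hC, show g⁻¹ * (g * d * g⁻¹) * g⁻¹⁻¹ = d by group]

theorem sub_mul_self (hD : IsRootInvolutionSet D) (hE : ClassClosed D) {d x : G} (hd : d ∈ D)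
    (hx : x ∈ sameCommutingSubgroup D d) : x * x = 1 := by
  rcases (mem_sub_iff hE hd).1 hx with h | h
  · exact mul_self_of_mem hD h.1
  · rw [h, one_mul]

/-- Two different classes meet trivially. -/
theorem sub_disjoint (hE : ClassClosed D) {d e x : G} (hd : d ∈ D) (he : e ∈ D)
    (hne : commutingMembers D d ≠ commutingMembers D e) (hx : x ∈ sameCommutingSubgroup D d)
    (hx' : x ∈ sameCommutingSubgroup D e) : x = 1 := by
  rcases (mem_sub_iff hE hd).1 hx with h | h
  · rcases (mem_sub_iff hE he).1 hx' with h' | h'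
    · exact absurd (h.2.trans h'.2.symm) hne
    · exact h'
  · exact h

/-- A member of the class multiplies into the class. -/
theorem class_mul_mem (hE : ClassClosed D) {d e : G} (hd : d ∈ D) (he : e ∈ D)
    (h : commutingMembers D d = commutingMembers D e) (hne : e * d ≠ 1) :
    e * d ∈ D ∧ commutingMembers D d = commutingMembers D (e * d) :=
  ((mem_sub_iff hE hd).1 (Subgroup.mul_mem _ (class_mem_sub he h) (self_mem_sub hd))).resolve_right hne

end Cfsg.Lib.RootInvol
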