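import Cfsg.Agent.Lib.RootInvol.SameClass
import Cfsg.Prelude.Def_QuasithinSetup

/-!
# Normal subgroups of a group generated by a connected set of root involutions
-/

set_option autoImplicit false

namespace Cfsg.Lib.RootInvol

open Cfsg
open scoped commutatorElement

variable {G : Type*} [Group G] {D : Set G}

/-- Two involutions whose product has order dividing four generate a 2-group. -/
theorem isPGroup_zpowers_sup {H : Type*} [Group H] {w v : H} (hw : w * w = 1) (hv : v * v = 1)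
    (h : (w * v) ^ 4 = 1) : IsPGroup 2 ↥(Subgroup.zpowers w ⊔ Subgroup.zpowers v) := by
  haveI : Fact (Nat.Prime 2) := ⟨Nat.prime_two⟩
  have hwi : w⁻¹ = w := inv_eq_of_mul_eq_one_right hw
  have hvi : v⁻¹ = v := inv_eq_of_mul_eq_one_right hv
  have hpow : ∀ (x : H) (n : ℕ), x ^ (2 ^ n : ℕ) = 1 → IsPGroup 2 (Subgroup.zpowers x) := fun x n hx => by
    rintro ⟨_, k, rfl⟩
    exact ⟨n, Subtype.ext (by
      show (x ^ k) ^ (2 ^ n : ℕ) = 1
      rw [← zpow_natCast, ← zpow_mul, mul_comm, zpow_mul, zpow_natCast, hx, one_zpow])⟩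
  set C := Subgroup.zpowers (w * v) with hCdef
  have hwC : ∀ y ∈ C, w * y * w⁻¹ ∈ C := by
    rintro _ ⟨k, rfl⟩
    refine ⟨-k, ?_⟩
    show (w * v) ^ (-k) = w * (w * v) ^ k * w⁻¹
    rw [← conj_zpow, zpow_neg, ← inv_zpow]
    congr 1
    rw [mul_inv_rev, hvi, hwi, ← mul_assoc w, hw, one_mul]
  have hn : Subgroup.zpowers w ≤ Subgroup.normalizer (C : Set H) :=
    Subgroup.zpowers_le.2 (Subgroup.mem_normalizer_iff.2 fun y => ⟨hwC y, fun hy => by
      have := hwC _ hy
      rwa [hwi, show w * (w * y * w) * w = y by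
        simp only [mul_assoc, hw, mul_one]; rw [← mul_assoc, hw, one_mul]] at this⟩)
  refine ((hpow w 1 (by rw [pow_one, pow_two, hw])).to_sup_of_normal_right' (hpow _ 2 h) hn).to_le
    (sup_le le_sup_left (Subgroup.zpowers_le.2 ?_))
  have h1 := Subgroup.mul_mem _ (Subgroup.mem_sup_left (T := C) (Subgroup.inv_mem _ (Subgroup.mem_zpowers w)))
    (Subgroup.mem_sup_right (S := Subgroup.zpowers w) (Subgroup.mem_zpowers (w * v)))
  rwa [inv_mul_cancel_left] at h1

theorem exists_oddAdj (hc : IsConnectedSet (OddAdj D) D) {d b : G} (hd : d ∈ D) (hb : b ∈ D) (hne : b ≠ d) :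
    ∃ x, OddAdj D d x := by
  rcases (hc d hd b hb).cases_head with h | ⟨x, hx, -⟩
  · exact absurd h.symm hne
  · exact ⟨x, hx⟩

theorem exists_partner (hD : IsRootInvolutionSet D) (hc : IsConnectedSet (OddAdj D) D)
    (hDD : (D ∩ commutingProducts D).Nonempty) {d : G} (hd : d ∈ D) :
    ∃ b ∈ D, b * d = d * b ∧ b ≠ d ∧ d * b ∈ D := by
  obtain ⟨_, hxD, a, ha, b, hb, hab, hne, rfl⟩ := hDD
  obtain ⟨g, hg⟩ := exists_conj_of_connected hD hc ha hd
  refine ⟨g * b * g⁻¹, hD.conj_mem b hb g, ?_, fun h => hne ?_, ?_⟩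
  · rw [hg, conj_mul, conj_mul, hab]
  · rw [hg] at h
    rw [mul_left_cancel (mul_right_cancel h), mul_self_of_mem hD ha]
  · rw [hg, conj_mul]
    exact hD.conj_mem _ hxD g

/-- A normal subgroup containing a member is the whole group. -/
theorem eq_top_of_mem (hD : IsRootInvolutionSet D) (hc : IsConnectedSet (OddAdj D) D) {N : Subgroup G}
    [N.Normal] {d : G} (hd : d ∈ D) (hdN : d ∈ N) : N = ⊤ := by
  rw [eq_top_iff, ← hD.generates, Subgroup.closure_le]
  intro e he
  obtain ⟨g, rfl⟩ := exists_conj_of_connected hD hc hd he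
  exact (inferInstance : N.Normal).conj_mem d hdN g

theorem normal_le_twoZCore [Finite G] (hD : IsRootInvolutionSet D) (hc : IsConnectedSet (OddAdj D) D)
    (hDD : (D ∩ commutingProducts D).Nonempty) (N : Subgroup G) [hN : N.Normal] :
    N ≤ twoZCore G ∨ N = ⊤ := by
  haveI : Fact (Nat.Prime 2) := ⟨Nat.prime_two⟩
  by_cases hex : ∃ d ∈ D, d ∈ N
  · obtain ⟨d, hd, hdN⟩ := hex
    exact Or.inr (eq_top_of_mem hD hc hd hdN)
  push Not at hex
  refine Or.inl ?_
  let π := QuotientGroup.mk' N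
  have hπ : ∀ e ∈ D, π e ≠ 1 := fun e he h => hex e he ((QuotientGroup.eq_one_iff e).1 h)
  have hπ2 : ∀ e ∈ D, π e * π e = 1 := fun e he => by rw [← map_mul, mul_self_of_mem hD he, map_one]
  -- a member has no odd partner in its coset
  have hcoset : ∀ d x, π x = π d → ¬ OddAdj D d x := by
    intro d x hxd hdx
    have hd := hdx.1
    obtain ⟨b, hb, hbd, hne, hdb⟩ := exists_partner hD hc hDD hd
    have key : ∀ z ∈ D, OddAdj D x z → π d * π z ∈ π '' D → False := by
      intro z hz hxz ⟨w, hw, hwe⟩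
      obtain ⟨j, hj⟩ := hxz.2.2.2
      have h2 : (π (x * z)) * (π (x * z)) = 1 := by rw [map_mul, hxd, ← hwe, hπ2 w hw]
      have h1 : π (x * z) ^ (2 * j + 1) = 1 := by rw [← map_pow, ← hj, pow_orderOf_eq_one, map_one]
      rw [pow_succ, pow_mul, pow_two, h2, one_pow, one_mul, map_mul, hxd, ← hwe] at h1
      exact hπ w hw h1
    rcases edge_of_pair hD hb hd hbd.symm hne.symm (hbd ▸ hdb) hdx with h | h
    · exact key b hb h ⟨d * b, hdb, by rw [map_mul]⟩
    · exact key (b * d) (hbd ▸ hdb) h ⟨b, hb, by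
        rw [map_mul, ← mul_assoc, ← map_mul π d b, ← hbd, map_mul, mul_assoc, hπ2 d hd, mul_one]⟩
  -- hence `N` centralizes every member modulo the 2-core
  have hmem : ∀ d ∈ D, ∀ n ∈ N, n * d * n⁻¹ * d⁻¹ ∈ Cfsg.pCore 2 G := by
    intro d hd n hn
    set H := N ⊔ Subgroup.zpowers d with hHdef
    let dH : H := ⟨d, Subgroup.mem_sup_right (Subgroup.mem_zpowers d)⟩
    have hd2 : dH * dH = 1 := Subtype.ext (mul_self_of_mem hD hd)
    have hdp : IsPGroup 2 (Subgroup.zpowers dH) :=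
      (isPGroup_zpowers_sup hd2 hd2 (by rw [hd2, one_pow])).to_le le_sup_left
    obtain ⟨M, hM, hMp, hdM⟩ := Cfsg.Lib.Invol.baerSuzuki (p := 2) (Subgroup.zpowers dH) hdp fun g => by
      rw [MonoidHom.map_zpowers]
      set v := (MulAut.conj g).toMonoidHom dH with hv
      have hvd : (v : G) = (g : G) * d * (g : G)⁻¹ := rfl
      have hvD : (v : G) ∈ D := hD.conj_mem d hd _
      have hπv : π (v : G) = π d := by
        obtain ⟨m, hm, z, ⟨k, rfl⟩, hmz⟩ := Subgroup.mem_sup_of_normal_left.1 g.2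
        have h1 : (v : G) = m * d * m⁻¹ := by
          rw [hvd, ← hmz]; group
        rw [h1, map_mul, map_mul, show π m = 1 from (QuotientGroup.eq_one_iff m).2 hm, one_mul, map_inv,
          show π m = 1 from (QuotientGroup.eq_one_iff m).2 hm, inv_one, mul_one]
      refine isPGroup_zpowers_sup hd2 (Subtype.ext (mul_self_of_mem hD hvD)) (Subtype.ext ?_)
      push_cast
      exact pow_four_of_not_oddAdj hD hd hvD (hcoset d v hπv)
    set z := n * d * n⁻¹ * d⁻¹ with hz
    have hzM : z ∈ M.map H.subtype ⊓ N := by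
      refine ⟨⟨⟨n, Subgroup.mem_sup_left hn⟩ * dH * ⟨n, Subgroup.mem_sup_left hn⟩⁻¹ * dH⁻¹, ?_, rfl⟩, ?_⟩
      · exact M.mul_mem (hM.conj_mem _ (hdM (Subgroup.mem_zpowers dH)) _) (M.inv_mem (hdM (Subgroup.mem_zpowers dH)))
      · rw [hz, show n * d * n⁻¹ * d⁻¹ = n * (d * n⁻¹ * d⁻¹) by group]
        exact N.mul_mem hn (hN.conj_mem _ (N.inv_mem hn) d)
    refine Cfsg.Lib.Core.le_pCore_of_isSubnormal (p := 2) ?_ ?_ hzM
    · refine .step _ N inf_le_right hN.isSubnormal ⟨fun y hy g => ?_⟩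
      rw [Subgroup.mem_subgroupOf] at hy ⊢
      push_cast
      obtain ⟨⟨y', hy', hyy⟩, hyN⟩ := hy
      refine ⟨⟨⟨(g : G), Subgroup.mem_sup_left g.2⟩ * y' * ⟨(g : G), Subgroup.mem_sup_left g.2⟩⁻¹,
        hM.conj_mem _ hy' _, ?_⟩, N.mul_mem (N.mul_mem g.2 hyN) (N.inv_mem g.2)⟩
      rw [map_mul, map_mul, map_inv, hyy]
      rfl
    · exact (hMp.map H.subtype).to_le inf_le_left
  intro n hn
  show QuotientGroup.mk' (Cfsg.pCore 2 G) n ∈ Subgroup.center (G ⧸ Cfsg.pCore 2 G)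
  rw [Subgroup.mem_center_iff]
  intro q
  obtain ⟨g, rfl⟩ := QuotientGroup.mk'_surjective (Cfsg.pCore 2 G) q
  have hg : g ∈ Subgroup.closure D := by rw [hD.generates]; exact Subgroup.mem_top g
  induction hg using Subgroup.closure_induction with
  | mem d hd =>
    have h1 : QuotientGroup.mk' (Cfsg.pCore 2 G) (n * d * n⁻¹ * d⁻¹) = 1 :=
      (QuotientGroup.eq_one_iff _).2 (hmem d hd n hn)
    simp only [map_mul, map_inv, ← commutatorElement_def] at h1
    exact (commutatorElement_eq_one_iff_mul_comm.1 h1).symm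
  | one => simp
  | mul a b _ _ ha hb => rw [map_mul]; exact Commute.mul_left ha hb
  | inv a _ ha => rw [map_inv]; exact Commute.inv_left ha

theorem twoZCore_ne_top [Finite G] (hD : IsRootInvolutionSet D) (hc : IsConnectedSet (OddAdj D) D)
    (hDD : (D ∩ commutingProducts D).Nonempty) :
    ∀ d ∈ D, d ∉ twoZCore G := by
  haveI : Fact (Nat.Prime 2) := ⟨Nat.prime_two⟩
  intro d hd hdZ
  obtain ⟨b, hb, -, hne, -⟩ := exists_partner hD hc hDD hd
  obtain ⟨x, hdx⟩ := exists_oddAdj hc hd hb hne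
  have h1 := Subgroup.mem_center_iff.1 hdZ (QuotientGroup.mk' (Cfsg.pCore 2 G) x)
  have h2 : (d * x) ^ 2 ∈ Cfsg.pCore 2 G := by
    rw [← QuotientGroup.eq_one_iff]
    show QuotientGroup.mk' (Cfsg.pCore 2 G) ((d * x) ^ 2) = 1
    rw [map_pow, map_mul, (Commute.mul_pow (h1.symm : Commute _ _)), ← map_pow, ← map_pow,
      pow_two d, pow_two x, mul_self_of_mem hD hd, mul_self_of_mem hD hdx.2.1, map_one, one_mul]
  obtain ⟨j, hj⟩ := Cfsg.Lib.Core.pCore_isPGroup 2 G ⟨_, h2⟩
  have h3 : (d * x) ^ (2 ^ (j + 1)) = 1 := by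
    rw [pow_succ' 2 j, pow_mul]; exact congrArg Subtype.val hj
  have h4 : orderOf (d * x) = 1 :=
    Nat.eq_one_of_dvd_coprimes ((hdx.2.2.2.coprime_two_right).pow_right _) (dvd_refl _) (orderOf_dvd_of_pow_eq_one h3)
  rw [orderOf_eq_one_iff] at h4
  exact hdx.2.2.1 (by rw [← inv_of_mem hD hd]; exact (eq_inv_of_mul_eq_one_right h4).symm)

theorem twoZCore_isSolvable [Finite G] : Group.IsSolvable (twoZCore G) := by
  haveI : Fact (Nat.Prime 2) := ⟨Nat.prime_two⟩
  let f : twoZCore G →* Subgroup.center (G ⧸ Cfsg.pCore 2 G) :=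
    ((QuotientGroup.mk' (Cfsg.pCore 2 G)).comp (twoZCore G).subtype).codRestrict _ fun x => x.2
  haveI hnil : Group.IsNilpotent (Cfsg.pCore 2 G) := (Cfsg.Lib.Core.pCore_isPGroup 2 G).isNilpotent
  haveI : Group.IsSolvable (Subgroup.center (G ⧸ Cfsg.pCore 2 G)) :=
    isSolvable_of_comm fun a b => Subtype.ext (Subgroup.mem_center_iff.1 b.2 a)
  refine solvable_of_ker_le_range (Subgroup.inclusion (show Cfsg.pCore 2 G ≤ twoZCore G from fun x hx => by
    show QuotientGroup.mk' (Cfsg.pCore 2 G) x ∈ Subgroup.center _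
    rw [show QuotientGroup.mk' (Cfsg.pCore 2 G) x = 1 from (QuotientGroup.eq_one_iff x).2 hx]
    exact Subgroup.one_mem _)) f fun x hx => ?_
  have h1 : QuotientGroup.mk' (Cfsg.pCore 2 G) (x : G) = 1 := congrArg Subtype.val hx
  exact ⟨⟨x, (QuotientGroup.eq_one_iff _).1 h1⟩, rfl⟩

theorem commutator_eq_top [Finite G] (hD : IsRootInvolutionSet D) (hc : IsConnectedSet (OddAdj D) D)
    (hDD : (D ∩ commutingProducts D).Nonempty) : commutator G = ⊤ := by
  rcases normal_le_twoZCore hD hc hDD (commutator G) with h | h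
  · exfalso
    obtain ⟨_, hxD, a, ha, b, hb, hab, hne, rfl⟩ := hDD
    obtain ⟨g, hg⟩ := exists_conj_of_connected hD hc ha hb
    refine twoZCore_ne_top hD hc ⟨_, hxD, a, ha, b, hb, hab, hne, rfl⟩ _ hxD (h ?_)
    rw [show a * b = ⁅a, g⁆ by
      rw [hg, commutatorElement_def, inv_of_mem hD ha]; simp only [mul_assoc], commutator_def]
    exact Subgroup.commutator_mem_commutator (Subgroup.mem_top _) (Subgroup.mem_top _)
  · exact h

theorem solvableRadical_and_simple [Finite G] (hD : IsRootInvolutionSet D) (hc : IsConnectedSet (OddAdj D) D)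
    (hDD : (D ∩ commutingProducts D).Nonempty) :
    solvableRadical G = twoZCore G ∧ IsSimpleGroup (G ⧸ twoZCore G) := by
  obtain ⟨d, hd, -⟩ := id hDD
  have hZ : twoZCore G ≠ ⊤ := fun h => twoZCore_ne_top hD hc hDD d hd (h ▸ Subgroup.mem_top d)
  haveI : Nontrivial G := ⟨⟨d, 1, fun h => twoZCore_ne_top hD hc hDD d hd (h ▸ Subgroup.one_mem _)⟩⟩
  constructor
  · refine le_antisymm (sSup_le fun N ⟨hN, hs⟩ => ?_) (le_sSup ⟨inferInstance, twoZCore_isSolvable⟩)
    haveI := hN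
    refine (normal_le_twoZCore hD hc hDD N).resolve_right fun h => ?_
    haveI : Group.IsSolvable (⊤ : Subgroup G) := h ▸ hs
    haveI : Group.IsSolvable G :=
      solvable_of_surjective (f := (⊤ : Subgroup G).subtype) (fun x => ⟨⟨x, trivial⟩, rfl⟩)
    exact (IsSolvable.commutator_lt_top_of_nontrivial G).ne (commutator_eq_top hD hc hDD)
  · haveI : Nontrivial (G ⧸ twoZCore G) := QuotientGroup.nontrivial_iff.2 hZ
    refine ⟨fun M hM => ?_⟩
    haveI := hM
    rcases normal_le_twoZCore hD hc hDD (M.comap (QuotientGroup.mk' (twoZCore G))) with h | h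
    · refine Or.inl ((Subgroup.eq_bot_iff_forall _).2 fun q hq => ?_)
      obtain ⟨g, rfl⟩ := QuotientGroup.mk'_surjective _ q
      exact (QuotientGroup.eq_one_iff g).2 (h hq)
    · refine Or.inr (eq_top_iff.2 fun q _ => ?_)
      obtain ⟨g, rfl⟩ := QuotientGroup.mk'_surjective _ q
      exact (SetLike.ext_iff.1 h g).2 trivial

end Cfsg.Lib.RootInvol
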