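import Cfsg.Agent.Lib.RootInvol.Components

/-!
# The classes `E_d` of a connected set of root involutions
-/

set_option autoImplicit false

namespace Cfsg.Lib.RootInvol

open Cfsg
open scoped commutatorElement

variable {G : Type*} [Group G] {D : Set G}

theorem mem_oddPartners_iff {d x : G} (hd : d ∈ D) : x ∈ oddPartners D d ↔ OddAdj D d x :=
  ⟨fun h => ⟨hd, h.1, h.2.1.symm, h.2.2⟩, fun h => ⟨h.2.1, h.2.2.1.symm, h.2.2.2⟩⟩

theorem mem_oddPartners_conj (hD : IsRootInvolutionSet D) (g d x : G) :
    x ∈ oddPartners D (g * d * g⁻¹) ↔ g⁻¹ * x * g ∈ oddPartners D d := by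
  have e : d * (g⁻¹ * x * g) = MulAut.conj g⁻¹ (g * d * g⁻¹ * x) := by
    rw [MulAut.conj_apply]; group
  constructor
  · rintro ⟨h1, h2, h3⟩
    refine ⟨by simpa using hD.conj_mem x h1 g⁻¹, fun h => h2 ?_, ?_⟩
    · rw [← h]; group
    · rw [e, MulEquiv.orderOf_eq]; exact h3
  · rintro ⟨h1, h2, h3⟩
    refine ⟨?_, fun h => h2 ?_, ?_⟩
    · have := hD.conj_mem _ h1 g
      rwa [show g * (g⁻¹ * x * g) * g⁻¹ = x by group] at this
    · rw [h]; group
    · rw [e, MulEquiv.orderOf_eq] at h3; exact h3

theorem oddPartners_conj_congr (hD : IsRootInvolutionSet D) {k l : G}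
    (h : oddPartners D k = oddPartners D l) (g : G) :
    oddPartners D (g * k * g⁻¹) = oddPartners D (g * l * g⁻¹) :=
  Set.ext fun x => by rw [mem_oddPartners_conj hD, mem_oddPartners_conj hD, h]

theorem ncard_oddPartners_conj (hD : IsRootInvolutionSet D) (g d : G) :
    (oddPartners D (g * d * g⁻¹)).ncard = (oddPartners D d).ncard := by
  have h : oddPartners D (g * d * g⁻¹) = (fun x => g * x * g⁻¹) '' oddPartners D d := by
    ext x
    rw [mem_oddPartners_conj hD]
    refine ⟨fun hx => ⟨_, hx, by group⟩, ?_⟩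
    rintro ⟨w, hw, rfl⟩
    simpa [mul_assoc] using hw
  rw [h]
  exact Set.ncard_image_of_injective _ fun a b hab => by simpa using hab

theorem exists_conj_of_oddAdj (hD : IsRootInvolutionSet D) {a b : G} (h : OddAdj D a b) :
    ∃ g : G, b = g * a * g⁻¹ := by
  obtain ⟨k, hk⟩ := h.2.2.2
  have ha := mul_self_of_mem hD h.1
  refine ⟨(a * b) ^ k, ?_⟩
  have h1 : a * ((a * b) ^ k)⁻¹ * a⁻¹ = (a * b) ^ k := by
    rw [← inv_pow, ← conj_pow]
    congr 1
    rw [mul_inv_rev, inv_of_mem hD h.1, inv_of_mem hD h.2.1]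
    rw [mul_assoc, mul_assoc b a a, ha, mul_one]
  have h2 : (a * b) ^ k * (a * b) ^ k = (a * b)⁻¹ :=
    eq_inv_of_mul_eq_one_left (by rw [← pow_add, ← pow_succ, ← two_mul, ← hk, pow_orderOf_eq_one])
  calc b = (a * b)⁻¹ * a := by
        rw [mul_inv_rev, inv_of_mem hD h.1, inv_of_mem hD h.2.1, mul_assoc, ha, mul_one]
    _ = (a * b) ^ k * (a * b) ^ k * a := by rw [h2]
    _ = (a * b) ^ k * a * ((a * b) ^ k)⁻¹ := by
        rw [mul_assoc, mul_assoc ((a * b) ^ k) a]
        exact congrArg _ (mul_inv_eq_iff_eq_mul.1 h1).symm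

theorem exists_conj_of_connected (hD : IsRootInvolutionSet D) (hc : IsConnectedSet (OddAdj D) D) {a b : G}
    (ha : a ∈ D) (hb : b ∈ D) : ∃ g : G, b = g * a * g⁻¹ := by
  induction hc a ha b hb with
  | refl => exact ⟨1, by group⟩
  | tail _ hxy ih =>
    obtain ⟨g, hg⟩ := ih hxy.1
    obtain ⟨g', hg'⟩ := exists_conj_of_oddAdj hD hxy
    exact ⟨g' * g, by rw [hg', hg]; group⟩

theorem commute_conj_of_pow_four (hD : IsRootInvolutionSet D) {a b : G} (ha : a ∈ D) (hb : b ∈ D)
    (h : (a * b) ^ 4 = 1) : Commute b (a * b * a) := by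
  have h1 : ((a * b) ^ 2)⁻¹ = (a * b) ^ 2 := inv_eq_of_mul_eq_one_right (by rw [← pow_add]; exact h)
  rw [pow_two, mul_inv_rev, mul_inv_rev, inv_of_mem hD ha, inv_of_mem hD hb] at h1
  show b * (a * b * a) = a * b * a * b
  simpa only [mul_assoc] using h1

/-- A member inside the same `A`-class as a product partner pair. -/
theorem oddPartners_eq_of_product [Finite G] (hD : IsRootInvolutionSet D)
    (hc : IsConnectedSet (OddAdj D) D) {e a : G} (he : e ∈ D) (ha : a ∈ D) (hae : a * e = e * a)
    (hne : a ≠ e) (hp : e * a ∈ D) (h : oddPartners D (e * a) = oddPartners D e) :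
    oddPartners D a = oddPartners D e := by
  refine Set.eq_of_subset_of_ncard_le (fun x hx => ?_) ?_ (Set.toFinite _)
  · rcases edge_of_pair hD he ha hae hne hp ((mem_oddPartners_iff ha).1 hx) with h1 | h1
    · exact (mem_oddPartners_iff he).2 (oddAdj_symm hD h1)
    · rw [← h]
      exact (mem_oddPartners_iff hp).2 (oddAdj_symm hD h1)
  · obtain ⟨g, hg⟩ := exists_conj_of_connected hD hc ha he
    rw [hg, ncard_oddPartners_conj hD]

theorem not_oddAdj_of_eq {k l : G} (h : oddPartners D k = oddPartners D l) : ¬ OddAdj D k l := by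
  intro h1
  have h2 : l ∈ oddPartners D l := h ▸ (mem_oddPartners_iff h1.1).2 h1
  exact h2.2.1 rfl

/-- The members with the same odd partners commute with each other. -/
theorem commute_of_oddPartners_eq [Finite G] (hD : IsRootInvolutionSet D)
    (hc : IsConnectedSet (OddAdj D) D) {k l : G} (hk : k ∈ D) (hl : l ∈ D)
    (h : oddPartners D k = oddPartners D l) : k * l = l * k := by
  by_contra hne
  haveI : Fact (Nat.Prime 2) := ⟨Nat.prime_two⟩
  set K : Set G := {v | v ∈ D ∧ oddPartners D v = oddPartners D k} with hKdef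
  have hKc : ∀ g v w : G, v ∈ K → w ∈ K → g * v * g⁻¹ = w → ∀ z ∈ K, g * z * g⁻¹ ∈ K := by
    intro g v w hv hw hgw z hz
    exact ⟨hD.conj_mem z hz.1 g, by rw [oddPartners_conj_congr hD (hz.2.trans hv.2.symm) g, hgw, hw.2]⟩
  set H := Subgroup.closure K with hHdef
  have hnorm : ∀ g ∈ H, ∀ z ∈ K, g * z * g⁻¹ ∈ K := by
    intro g hg
    induction hg using Subgroup.closure_induction_left with
    | one => exact fun z hz => by simpa using hz
    | mul_left v hv g _ ih =>
      intro z hz
      have := hKc v v v hv hv (by rw [mul_inv_cancel_right]) _ (ih z hz)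
      rwa [show v * g * z * (v * g)⁻¹ = v * (g * z * g⁻¹) * v⁻¹ by group]
    | inv_mul_cancel v hv g _ ih =>
      intro z hz
      have := hKc v v v hv hv (by rw [mul_inv_cancel_right]) _ (ih z hz)
      rw [show v⁻¹ * g * z * (v⁻¹ * g)⁻¹ = v⁻¹ * (g * z * g⁻¹) * v by group, inv_of_mem hD hv.1]
      rwa [inv_of_mem hD hv.1] at this
  set DH : Set H := {v | (v : G) ∈ K} with hDHdef
  have hDH : IsRootInvolutionSet DH := by
    refine ⟨fun v hv => by rw [← Subgroup.orderOf_coe]; exact hD.orderOf_eq _ hv.1,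
      Subgroup.closure_preimage_eq_top K, fun v hv g => hnorm _ g.2 _ hv, ?_⟩
    intro v hv w hw
    rcases hD.pair _ hv.1 _ hw.1 with h1 | h1 | ⟨h1, h2⟩
    · exact Or.inl (Subtype.ext h1)
    · exact Or.inr (Or.inl (by rw [← Subgroup.orderOf_coe]; exact h1))
    · refine Or.inr (Or.inr ⟨by rw [← Subgroup.orderOf_coe]; exact h1, ?_⟩)
      show (((v * w) ^ 2 : H) : G) ∈ K
      push_cast
      refine ⟨h2, ?_⟩
      have hvw := hKc _ _ _ hw hw (by rw [mul_inv_cancel_right]) _ hv
      rw [inv_of_mem hD hw.1] at hvw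
      have e1 : (v : G) * (((v : G) * w) ^ 2) = w * v * w := by
        rw [pow_two]; simp only [← mul_assoc, mul_self_of_mem hD hv.1, one_mul]
      have hne' : ((v : G) * w) ^ 2 ≠ v := by
        intro h3
        have h4 : (w : G) * v * w = 1 := by rw [← e1, h3, mul_self_of_mem hD hv.1]
        have h5 : orderOf ((w : G) * v * w) = 2 := hD.orderOf_eq _ hvw.1
        rw [h4, orderOf_one] at h5
        omega
      have hcm : ((v : G) * w) ^ 2 * v = v * ((v : G) * w) ^ 2 := by
        have h3 := inv_of_mem hD h2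
        rw [pow_two, mul_inv_rev, mul_inv_rev, inv_of_mem hD hv.1, inv_of_mem hD hw.1] at h3
        conv_lhs => rw [pow_two, ← h3]
        rw [e1]
        simp only [mul_assoc, mul_self_of_mem hD hv.1, mul_one]
      exact (oddPartners_eq_of_product hD hc hv.1 h2 hcm hne' (by rw [e1]; exact hvw.1)
        (by rw [e1, hvw.2, hv.2])).trans hv.2
  have hiso : ∀ v ∈ DH, v ∈ Cfsg.pCore 2 H := fun v hv => mem_pCore_of_isolated hDH ⟨hv, fun w => by
    have key : ¬ OddAdj DH v w := by
      rintro ⟨-, hw, hne', hodd⟩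
      refine not_oddAdj_of_eq (hv.2.trans hw.2.symm) ⟨hv.1, hw.1, fun h' => hne' (Subtype.ext h'), ?_⟩
      rwa [← Subgroup.orderOf_coe] at hodd
    exact ⟨key, fun h' => key (oddAdj_symm hDH h')⟩⟩
  have hp : IsPGroup 2 H := by
    have h1 : (⊤ : Subgroup H) ≤ Cfsg.pCore 2 H := by
      rw [← hDH.generates, Subgroup.closure_le]
      exact hiso
    intro v
    obtain ⟨j, hj⟩ := Cfsg.Lib.Core.pCore_isPGroup 2 H ⟨v, h1 trivial⟩
    exact ⟨j, congrArg Subtype.val hj⟩
  haveI : Group.IsNilpotent H := hp.isNilpotent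
  have hkK : k ∈ K := ⟨hk, rfl⟩
  have hlK : l ∈ K := ⟨hl, h.symm⟩
  let kH : H := ⟨k, Subgroup.subset_closure hkK⟩
  let lH : H := ⟨l, Subgroup.subset_closure hlK⟩
  have ha4 : orderOf (k * l) = 4 ∧ (k * l) ^ 2 ∈ D := by
    rcases hD.pair k hk l hl with h1 | h1 | h1
    · exact absurd h1 hne
    · exact absurd ⟨hk, hl, fun e => hne (by rw [e]), h1⟩ (not_oddAdj_of_eq h)
    · exact h1
  have haK : (k * l) ^ 2 ∈ K := by
    rcases hDH.pair kH hkK lH hlK with h1 | h1 | ⟨-, h1⟩
    · exact absurd (congrArg Subtype.val h1) hne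
    · rw [← Subgroup.orderOf_coe] at h1
      have h2 : Odd (orderOf (k * l)) := h1
      rw [ha4.1] at h2
      exact absurd h2 (by decide)
    · exact h1
  have hcomm : (⟨(k * l) ^ 2, Subgroup.subset_closure haK⟩ : H) ∈ commutator H := by
    have e1 : (⟨(k * l) ^ 2, Subgroup.subset_closure haK⟩ : H) = ⁅kH, lH⁆ := by
      apply Subtype.ext
      show (k * l) ^ 2 = k * l * k⁻¹ * l⁻¹
      rw [inv_of_mem hD hk, inv_of_mem hD hl, pow_two, mul_assoc (k * l)]
    rw [e1, commutator_def]
    exact Subgroup.commutator_mem_commutator (Subgroup.mem_top _) (Subgroup.mem_top _)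
  have htop : commutator H = ⊤ := by
    rw [eq_top_iff, ← hDH.generates, Subgroup.closure_le]
    intro v hv
    obtain ⟨g, hg⟩ := exists_conj_of_connected hD hc haK.1 hv.1
    have hgK : ∀ z ∈ K, g * z * g⁻¹ ∈ K := hKc g _ _ haK hv hg.symm
    have hgH : ∀ z ∈ H, g * z * g⁻¹ ∈ H := by
      intro z hz
      induction hz using Subgroup.closure_induction with
      | mem z hz => exact Subgroup.subset_closure (hgK z hz)
      | one => simpa using H.one_mem
      | mul a b _ _ ha hb => rw [← conj_mul]; exact H.mul_mem ha hb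
      | inv a _ ha => rw [← conj_inv]; exact H.inv_mem ha
    let φ : H →* H :=
      { toFun := fun z => ⟨g * z * g⁻¹, hgH z z.2⟩
        map_one' := Subtype.ext (by simp)
        map_mul' := fun a b => Subtype.ext (by push_cast; group) }
    have h3 : φ ⟨(k * l) ^ 2, Subgroup.subset_closure haK⟩ ∈ (commutator H).map φ := ⟨_, hcomm, rfl⟩
    have h4 : (commutator H).map φ ≤ commutator H := by
      rw [commutator_def, Subgroup.map_commutator]
      exact Subgroup.commutator_mono le_top le_top
    have h5 : φ ⟨(k * l) ^ 2, Subgroup.subset_closure haK⟩ = v := Subtype.ext hg.symm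
    rw [h5] at h3
    exact h4 h3
  have hsub : Subsingleton H := by
    by_contra hns
    rw [not_subsingleton_iff_nontrivial] at hns
    exact (IsSolvable.commutator_lt_top_of_nontrivial H).ne htop
  have : k = (1 : H) := congrArg Subtype.val (Subsingleton.elim kH 1)
  have h2 := hD.orderOf_eq k hk
  rw [this, Subgroup.coe_one, orderOf_one] at h2
  omega

/-- Equality of commuting sets gives equality of odd partners. -/
theorem oddPartners_subset_of_commutingMembers_eq (hD : IsRootInvolutionSet D) {d e : G} (hd : d ∈ D)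
    (he : e ∈ D) (h : commutingMembers D d = commutingMembers D e) :
    oddPartners D d ⊆ oddPartners D e := by
  intro x hx
  have hdx := (mem_oddPartners_iff hd).1 hx
  have hed : e * d = d * e := ((Set.ext_iff.1 h e).2 ⟨he, rfl⟩).2
  rcases hD.pair e he x hx.1 with h1 | h1 | ⟨h1, hf⟩
  · exact absurd ((Set.ext_iff.1 h x).2 ⟨hx.1, h1.symm⟩).2.symm (not_commute_of_oddAdj hD hdx)
  · by_cases hex : e = x
    · exact absurd (hex ▸ hed).symm (not_commute_of_oddAdj hD hdx)
    · exact (mem_oddPartners_iff he).2 ⟨he, hx.1, hex, h1⟩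
  · exfalso
    set f := (e * x) ^ 2 with hfdef
    have hc4 := commute_conj_of_pow_four hD he hx.1 (by rw [← h1, pow_orderOf_eq_one])
    have hexe : e * x * e = f * x := by
      rw [hfdef, pow_two]; simp only [mul_assoc, mul_self_of_mem hD hx.1, mul_one]
    have hfx : Commute f x := by
      have : f = e * x * e * x := by rw [hfdef, pow_two, ← mul_assoc]
      rw [this]
      exact (hc4.symm.mul_left (Commute.refl x))
    have hfe : Commute f e := by
      have hfi := inv_of_mem hD hf
      have h3 : f = x * e * (x * e) := by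
        conv_lhs => rw [← hfi, hfdef, pow_two, mul_inv_rev, mul_inv_rev, inv_of_mem hD he, inv_of_mem hD hx.1]
      show f * e = e * f
      conv_rhs => rw [h3]
      conv_lhs => rw [hfdef, pow_two]
      simp only [mul_assoc]
    have hfd : Commute f d := ((Set.ext_iff.1 h f).2 ⟨hf, hfe⟩).2
    have hfu : Commute f (d * x) := hfd.mul_right hfx
    have e1 : e * (d * x) * e⁻¹ = f * (d * x) := by
      rw [inv_of_mem hD he, ← mul_assoc e, hed, mul_assoc d, mul_assoc d, hexe, ← mul_assoc, ← hfd.eq, mul_assoc]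
    have h2 : orderOf (f * (d * x)) = orderOf (d * x) := by
      rw [← e1]; exact MulEquiv.orderOf_eq (MulAut.conj e) _
    rw [hfu.orderOf_mul_eq_mul_orderOf_of_coprime
      (by rw [hD.orderOf_eq f hf]; exact hdx.2.2.2.coprime_two_left), hD.orderOf_eq f hf] at h2
    have := hdx.2.2.2.pos
    omega

/-- Equality of odd partners gives equality of commuting sets. -/
theorem commutingMembers_subset_of_oddPartners_eq [Finite G] (hD : IsRootInvolutionSet D)
    (hc : IsConnectedSet (OddAdj D) D) {d e : G} (hd : d ∈ D) (he : e ∈ D)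
    (h : oddPartners D d = oddPartners D e) : commutingMembers D d ⊆ commutingMembers D e := by
  rintro c ⟨hcD, hcd⟩
  refine ⟨hcD, ?_⟩
  by_contra hne
  have hce : ¬ OddAdj D c e := fun h1 => by
    have h2 : c ∈ oddPartners D d := h ▸ (mem_oddPartners_iff he).2 (oddAdj_symm hD h1)
    exact not_commute_of_oddAdj hD ((mem_oddPartners_iff hd).1 h2) hcd.symm
  obtain ⟨h4, hfD⟩ : orderOf (c * e) = 4 ∧ (c * e) ^ 2 ∈ D := by
    rcases hD.pair c hcD e he with h1 | h1 | h1
    · exact absurd h1 hne
    · exact absurd ⟨hcD, he, fun h2 => hne (by rw [h2]), h1⟩ hce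
    · exact h1
  set f := (c * e) ^ 2 with hfdef
  have hcec : Commute e (c * e * c) := commute_conj_of_pow_four hD hcD he (by rw [← h4, pow_orderOf_eq_one])
  have hfE : f = c * e * c * e := by rw [hfdef, pow_two, ← mul_assoc]
  have hfe : Commute f e := by rw [hfE]; exact hcec.symm.mul_left (Commute.refl e)
  have hef : e * f = c * e * c := by
    rw [← hfe.eq, hfE, mul_assoc, mul_self_of_mem hD he, mul_one]
  have hfc : Commute f c := by
    show f * c = c * f
    have h3 : f = e * (c * e * c) := by rw [hfE]; exact hcec.eq.symm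
    conv_rhs => rw [h3]
    conv_lhs => rw [hfE]
    simp only [mul_assoc]
  have hefD : e * f ∈ D := by
    rw [hef]; simpa [inv_of_mem hD hcD] using hD.conj_mem e he c
  have hAef : oddPartners D (e * f) = oddPartners D e := by
    have h1 := oddPartners_conj_congr hD h.symm c
    rw [inv_of_mem hD hcD, hcd, mul_assoc d, mul_self_of_mem hD hcD, mul_one] at h1
    rw [hef, h1, h]
  have hfne : f ≠ e := fun h1 => by
    rw [h1, mul_self_of_mem hD he] at hefD
    have := hD.orderOf_eq 1 hefD
    rw [orderOf_one] at this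
    omega
  have hAf : oddPartners D f = oddPartners D e :=
    oddPartners_eq_of_product hD hc he hfD hfe hfne hefD hAef
  have hcne : c ≠ f := fun h1 => hne (h1 ▸ hfe)
  -- some odd partner `y` of `f` has product of order four with `c`
  obtain ⟨y, hyf, hyc⟩ : ∃ y, OddAdj D f y ∧ ¬ OddAdj D c y := by
    by_contra hh
    push Not at hh
    refine hne (commute_of_oddPartners_eq hD hc hcD he ?_)
    rw [← hAf]
    refine (Set.eq_of_subset_of_ncard_le ?_ ?_ (Set.toFinite _)).symm
    · exact fun x hx => (mem_oddPartners_iff hcD).2 (hh x ((mem_oddPartners_iff hfD).1 hx))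
    · obtain ⟨g, hg⟩ := exists_conj_of_connected hD hc hcD hfD
      rw [hg, ncard_oddPartners_conj hD]
  have hyD := hyf.2.1
  have hcf : c * f = f * c := hfc.eq.symm
  have hcfD : c * f ∈ D := by
    have h1 := hD.conj_mem c hcD e
    have h2 : e * c * e⁻¹ = c * f := by
      rw [inv_of_mem hD he, hfdef, pow_two]
      simp only [← mul_assoc, mul_self_of_mem hD hcD, one_mul]
    rwa [h2] at h1
  -- members commuting with `c` are no odd partners of `f`
  have hP : ∀ x ∈ D, c * x = x * c → ¬ OddAdj D f x := fun x _ hx hfx =>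
    not_exists_commuting hD hcD hfc.eq hcfD hfx hx
  have hodd : Odd (orderOf (c * f * y)) := by
    rcases edge_of_pair hD hcD hfD hfc.eq hcne.symm hcfD hyf with h1 | h1
    · exact absurd (oddAdj_symm hD h1) hyc
    · exact (oddAdj_symm hD h1).2.2.2
  set u := f * y with hudef
  let cc : ℤ → G := fun i => u ^ i * c * (u ^ i)⁻¹
  have hcc0 : cc 0 = c := by simp [cc]
  have hccD : ∀ i, cc i ∈ D := fun i => hD.conj_mem c hcD _
  have hfu : f * u * f⁻¹ = u⁻¹ := by
    rw [hudef, mul_inv_rev, inv_of_mem hD hfD, inv_of_mem hD hyD, ← mul_assoc, mul_self_of_mem hD hfD, one_mul]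
  have hyu : y * u * y⁻¹ = u⁻¹ := by
    rw [hudef, mul_inv_rev, inv_of_mem hD hfD, inv_of_mem hD hyD, mul_assoc, mul_assoc f, mul_self_of_mem hD hyD,
      mul_one]
  have hfcc : ∀ i, f * cc i * f = cc (-i) := by
    intro i
    show f * (u ^ i * c * (u ^ i)⁻¹) * f = u ^ (-i) * c * (u ^ (-i))⁻¹
    have h1 : f * u ^ i * f⁻¹ = u ^ (-i) := by rw [← conj_zpow, hfu, inv_zpow, zpow_neg]
    rw [← h1]
    have h2 : f⁻¹ * c * f = c := by
      rw [inv_of_mem hD hfD, hfc.eq, mul_assoc, mul_self_of_mem hD hfD, mul_one]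
    calc f * (u ^ i * c * (u ^ i)⁻¹) * f = f * u ^ i * (f⁻¹ * f) * c * (u ^ i)⁻¹ * f⁻¹ := by
          rw [inv_mul_cancel, mul_one, inv_of_mem hD hfD]; simp only [mul_assoc]
      _ = f * u ^ i * f⁻¹ * c * f * (u ^ i)⁻¹ * f⁻¹ := by
          conv_rhs => rw [mul_assoc (f * u ^ i * f⁻¹) c f, ← hfc.eq]
          simp only [mul_assoc]
      _ = _ := by group
  have hycc : ∀ i, y * cc i * y = cc (-i - 1) := by
    intro i
    show y * (u ^ i * c * (u ^ i)⁻¹) * y = u ^ (-i - 1) * c * (u ^ (-i - 1))⁻¹
    have h1 : y * u ^ i * y⁻¹ = u ^ (-i) := by rw [← conj_zpow, hyu, inv_zpow, zpow_neg]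
    have h2 : u⁻¹ * c * u = y * c * y⁻¹ := by
      rw [hudef, mul_inv_rev, inv_of_mem hD hfD, inv_of_mem hD hyD]
      simp only [mul_assoc]
      rw [← mul_assoc c f y, hcf, mul_assoc f c y, mul_self_cancel hD hfD]
    calc y * (u ^ i * c * (u ^ i)⁻¹) * y = (y * u ^ i * y⁻¹) * (y * c * y⁻¹) * (y * u ^ i * y⁻¹)⁻¹ := by
          rw [inv_of_mem hD hyD]
          simp only [mul_inv_rev, inv_of_mem hD hyD, mul_assoc, mul_self_cancel hD hyD]
      _ = _ := by rw [h1, ← h2]; group
  have htr : ∀ {i j : ℤ} (k : ℤ), Commute (cc i) (cc j) → Commute (cc (i + k)) (cc (j + k)) := by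
    intro i j k hij
    have h1 : ∀ l, cc (l + k) = MulAut.conj (u ^ k) (cc l) := fun l => by
      show u ^ (l + k) * c * (u ^ (l + k))⁻¹ = u ^ k * (u ^ l * c * (u ^ l)⁻¹) * (u ^ k)⁻¹
      group
    rw [h1, h1]
    exact hij.map _
  have hh : ∀ d : ℕ, Commute (cc 0) (cc d) := by
    intro d
    induction d using Nat.strong_induction_on with
    | _ d ih =>
      rcases Nat.even_or_odd d with ⟨a, rfl⟩ | ⟨a, rfl⟩
      · rcases Nat.eq_zero_or_pos a with rfl | ha
        · exact Commute.refl _
        have h1 : ¬ OddAdj D f (cc a) := hP _ (hccD _) (by rw [← hcc0]; exact ih a (by omega))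
        have h2 := commute_conj_of_pow_four hD hfD (hccD a) (pow_four_of_not_oddAdj hD hfD (hccD a) h1)
        rw [hfcc] at h2
        have h3 := htr (a : ℤ) h2.symm
        rwa [neg_add_cancel, show (a : ℤ) + a = ((a + a : ℕ) : ℤ) by push_cast; ring] at h3
      · have h1 : (y * cc a) ^ 4 = 1 := by
          rcases Nat.eq_zero_or_pos a with rfl | ha
          · rw [Nat.cast_zero, hcc0]
            exact pow_four_of_not_oddAdj hD hyD hcD (fun h1 => hyc (oddAdj_symm hD h1))
          refine pow_four_of_not_oddAdj hD hyD (hccD a) fun hya => ?_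
          have hcy4 : (c * y) ^ 2 ∈ D := by
            rcases hD.pair c hcD y hyD with h2 | h2 | ⟨-, h2⟩
            · exact absurd (hP y hyD h2) (not_not.2 hyf)
            · exact absurd ⟨hcD, hyD, fun h3 => hP y hyD (by rw [h3]) hyf, h2⟩ hyc
            · exact h2
          set m := (c * y) ^ 2 with hmdef
          have hm : m = cc 0 * cc (-1) := by
            rw [hcc0, hmdef, pow_two, show (-1 : ℤ) = -0 - 1 by ring, ← hycc 0, hcc0]
            simp only [mul_assoc]
          have hmy : y * m = m * y := by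
            have h3 : m⁻¹ = m := inv_of_mem hD hcy4
            rw [hmdef, pow_two, mul_inv_rev, mul_inv_rev, inv_of_mem hD hcD, inv_of_mem hD hyD] at h3
            conv_lhs => rw [hmdef, pow_two]
            conv_rhs => rw [hmdef, pow_two, ← h3]
            simp only [mul_assoc]
          have hmyD : m * y ∈ D := by
            rw [hmdef, pow_two, show c * y * (c * y) * y = c * y * c⁻¹ by
              rw [inv_of_mem hD hcD]; simp only [mul_assoc, mul_self_of_mem hD hyD, mul_one]]
            exact hD.conj_mem y hyD c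
          refine not_exists_commuting hD hcy4 hmy hmyD hya ?_
          have h3 : Commute (cc a) m := by
            rw [hm]
            refine Commute.mul_right (ih a (by omega)).symm ?_
            have h5 := htr (-1) (ih (a + 1) (by omega))
            rw [zero_add, show ((a + 1 : ℕ) : ℤ) + -1 = a by push_cast; ring] at h5
            exact h5.symm
          exact h3.eq.symm
        have h2 := commute_conj_of_pow_four hD hyD (hccD a) h1
        rw [hycc] at h2
        have h3 := htr ((a : ℤ) + 1) h2.symm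
        rwa [show -(a : ℤ) - 1 + (a + 1) = 0 by ring,
          show (a : ℤ) + (a + 1) = ((2 * a + 1 : ℕ) : ℤ) by push_cast; ring] at h3
  have hcomm : ∀ i j, Commute (cc i) (cc j) := by
    intro i j
    obtain ⟨n, hn | hn⟩ := Int.eq_nat_or_neg (j - i)
    · have h1 := htr i (hh n)
      rwa [zero_add, show (n : ℤ) + i = j by omega] at h1
    · have h1 := (htr j (hh n)).symm
      rwa [zero_add, show (n : ℤ) + j = i by omega] at h1
  -- conjugates of `f` under members commuting with `c` and `y` commute with `e`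
  have hL : ∀ m ∈ D, c * m = m * c → y * m = m * y → m * y ∈ D → Commute e (m * f * m) := by
    intro m hm hcm hym hmy
    have hK : ∀ k ∈ D, oddPartners D k = oddPartners D e → m * k ≠ k * m ∧ (m * k) ^ 4 = 1 := by
      intro k hk hAk
      have hyk : OddAdj D k y :=
        (mem_oddPartners_iff hk).1 ((hAk.trans hAf.symm).symm ▸ (mem_oddPartners_iff hfD).2 hyf)
      refine ⟨not_exists_commuting hD hm hym hmy (oddAdj_symm hD hyk),
        pow_four_of_not_oddAdj hD hm hk fun h1 => hP m hm hcm ?_⟩
      exact (mem_oddPartners_iff hfD).1 ((hAk.trans hAf.symm) ▸ (mem_oddPartners_iff hk).2 (oddAdj_symm hD h1))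
    have hm2 := mul_self_of_mem hD hm
    set e' := m * e * m with he'def
    set f' := m * f * m with hf'def
    have hf'D : f' ∈ D := by rw [hf'def]; simpa [inv_of_mem hD hm] using hD.conj_mem f hfD m
    have c1 : Commute e e' := commute_conj_of_pow_four hD hm he (hK e he rfl).2
    have c2 : Commute f f' := commute_conj_of_pow_four hD hm hfD (hK f hfD hAf).2
    have hmm : m * (e * f) * m = e' * f' := by
      rw [he'def, hf'def]; simp only [mul_assoc]; rw [mul_self_cancel hD hm]
    have c3 : Commute (e * f) (e' * f') := by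
      rw [← hmm]; exact commute_conj_of_pow_four hD hm hefD (hK _ hefD hAef).2
    have hcef : Commute e' f' := by
      show e' * f' = f' * e'
      rw [← hmm, ← hfe.eq, he'def, hf'def]; simp only [mul_assoc]; rw [mul_self_cancel hD hm]
    have he'2 : e' * e' = 1 := by
      rw [he'def]; simp only [mul_assoc]
      rw [mul_self_cancel hD hm, mul_self_cancel hD he, hm2]
    have hf'2 := mul_self_of_mem hD hf'D
    have hgD : f' * e * f' ∈ D := by simpa [inv_of_mem hD hf'D] using hD.conj_mem e he f'
    have hAg : oddPartners D (f' * e * f') = oddPartners D e := by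
      have h1 := oddPartners_conj_congr hD hAf.symm f'
      rw [inv_of_mem hD hf'D] at h1
      rw [h1, ← c2.eq, mul_assoc, hf'2, mul_one, hAf]
    set a := e * (f' * e * f') with hadef
    have hga : Commute e (f' * e * f') := commute_of_oddPartners_eq hD hc he hgD hAg.symm
    by_contra hcon
    have ha1 : a ≠ 1 := fun h1 => hcon (by
      rw [hadef] at h1
      have h2 : f' * e * f' = e := (inv_eq_of_mul_eq_one_right h1).symm.trans (inv_of_mem hD he)
      show e * f' = f' * e
      conv_lhs => rw [← h2]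
      rw [mul_assoc, hf'2, mul_one])
    have ha : a = (e * f') ^ 2 := by rw [hadef, pow_two]; simp only [mul_assoc]
    have haD : a ∈ D := by
      rcases hD.pair e he f' hf'D with h1 | h1 | ⟨-, h1⟩
      · exact absurd h1 hcon
      · refine absurd ?_ (not_commute_of_oddAdj hD ((mem_oddPartners_iff hfD).1
          (hAf.symm ▸ (mem_oddPartners_iff he).2 ⟨he, hf'D, fun h2 => hcon (h2 ▸ Commute.refl e), h1⟩) :
            OddAdj D f f'))
        exact c2.eq
      · rw [ha]; exact h1
    have hea : e * a = f' * e * f' := by rw [hadef, mul_self_cancel hD he]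
    have haA : oddPartners D a = oddPartners D e := by
      refine oddPartners_eq_of_product hD hc he haD ?_ ?_ (hea ▸ hgD) (by rw [hea, hAg])
      · exact (((Commute.refl e).mul_left hga.symm).eq :)
      · intro h1
        rw [hadef, mul_eq_left] at h1
        have := hD.orderOf_eq _ hgD
        rw [h1, orderOf_one] at this
        omega
    refine (hK a haD haA).1 ?_
    -- `m` centralizes `a`
    set b := e' * f * e' * f with hbdef
    have hb : m * b * m = a := by
      rw [hbdef, hadef, he'def, hf'def]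
      simp only [mul_assoc, mul_self_cancel hD hm, hm2, mul_one]
    have hfg : Commute f (f' * e * f') := (c2.mul_right hfe).mul_right c2
    have hbe : e' * f * e' = f * b := by
      have he'D : e' ∈ D := by rw [he'def]; simpa [inv_of_mem hD hm] using hD.conj_mem e he m
      have h1 : Commute f (e' * f * e') :=
        commute_conj_of_pow_four hD he'D hfD (pow_four_of_not_oddAdj hD he'D hfD fun h2 =>
          not_commute_of_oddAdj hD ((mem_oddPartners_iff he).1
            (hAf ▸ (mem_oddPartners_iff hfD).2 (oddAdj_symm hD h2))) c1.eq)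
      rw [hbdef, ← mul_assoc f (e' * f * e') f, h1.eq, mul_assoc (e' * f * e'), mul_self_of_mem hD hfD, mul_one]
    have hab : a * b = 1 := by
      have h1 : e' * f' * (e * f) * (e' * f')⁻¹ = e * f := by rw [← c3.eq, mul_inv_cancel_right]
      have h2 : e' * f' * e * (e' * f')⁻¹ = f' * e * f' := by
        rw [hcef.eq, mul_inv_rev, inv_eq_of_mul_eq_one_right he'2, inv_eq_of_mul_eq_one_right hf'2,
          mul_assoc f' e' e, ← c1.eq]
        simp only [mul_assoc]
        rw [← mul_assoc e' e', he'2, one_mul]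
      have h3 : e' * f' * f * (e' * f')⁻¹ = e' * f * e' := by
        rw [mul_inv_rev, inv_eq_of_mul_eq_one_right he'2, inv_eq_of_mul_eq_one_right hf'2,
          mul_assoc e' f' f, ← c2.eq]
        simp only [mul_assoc]
        rw [← mul_assoc f' f', hf'2, one_mul]
      rw [← conj_mul, h2, h3, hbe] at h1
      rw [hadef, mul_assoc, ← mul_left_cancel_iff (a := f)]
      calc f * (e * (f' * e * f' * b)) = e * (f * (f' * e * f')) * b := by
            rw [← mul_assoc, hfe.eq]; simp only [mul_assoc]
        _ = e * (f' * e * f' * (f * b)) := by rw [hfg.eq]; simp only [mul_assoc]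
        _ = f * 1 := by rw [h1, mul_self_cancel hD he, mul_one]
    have hba : b = a := by
      rw [← inv_of_mem hD haD]; exact eq_inv_of_mul_eq_one_right hab
    rw [hba] at hb
    calc m * a = m * a * (m * m) := by rw [hm2, mul_one]
      _ = m * a * m * m := by rw [mul_assoc (m * a)]
      _ = a * m := by rw [hb]
  -- the products `cc (-j) * cc j` commute with `e`
  have hcc2 : ∀ i, cc i * cc i = 1 := fun i => mul_self_of_mem hD (hccD i)
  have hp : ∀ j : ℕ, Commute e (cc (-j) * cc j) := by
    intro j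
    induction j with
    | zero => simp only [Nat.cast_zero, neg_zero, hcc2]; exact Commute.one_right e
    | succ j ih =>
      set m := cc j * cc (-(j : ℤ) - 1) with hmdef
      have hmdef' : m = cc j * (y * cc j * y) := by rw [hycc]
      have h1 : Commute e (f * m * f * m) := by
        by_cases hcy : cc (j : ℤ) * y = y * cc j
        · have : m = 1 := by rw [hmdef', ← hcy, mul_assoc (cc j) y y, mul_self_of_mem hD hyD, mul_one, hcc2]
          rw [this, mul_one, mul_one, mul_self_of_mem hD hfD]
          exact Commute.one_right e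
        have hcje : ¬ OddAdj D (cc j) y := by
          intro h2
          have h3 := commute_conj_of_pow_four hD hyD (hccD j)
          have h4 : Commute (cc j) (y * cc j * y) := by rw [hycc]; exact hcomm _ _
          refine not_commute_of_oddAdj hD h2 ?_
          -- an odd dihedral pair whose members `x, yxy` commute
          exfalso
          have h5 : (y * cc j) ^ 4 = 1 := by
            rw [show (4 : ℕ) = 2 + 2 from rfl, pow_add, pow_two]
            have := h4.eq
            calc y * cc j * (y * cc j) * (y * cc j * (y * cc j))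
                = y * cc j * y * cc j * (y * cc j * y * cc j) := by simp only [mul_assoc]
              _ = y * cc j * y * cc j * (cc j * (y * cc j * y)) := by rw [← this]
              _ = 1 := by
                simp only [mul_assoc, mul_self_cancel hD (hccD j), mul_self_cancel hD hyD,
                  mul_self_of_mem hD hyD]
          have h6 := (oddAdj_symm hD h2).2.2.2
          have h7 : orderOf (y * cc j) = 1 :=
            Nat.eq_one_of_dvd_coprimes (by
              rw [show (4 : ℕ) = 2 ^ 2 from rfl]; exact (h6.coprime_two_right).pow_right _)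
              (dvd_refl _) (orderOf_dvd_of_pow_eq_one h5)
          rw [orderOf_eq_one_iff] at h7
          exact hcy (by
            rw [← inv_of_mem hD hyD, eq_inv_of_mul_eq_one_right h7, inv_of_mem hD hyD])
        rcases hD.pair _ (hccD j) y hyD with h2 | h2 | ⟨-, h2⟩
        · exact absurd h2 hcy
        · exact absurd ⟨hccD j, hyD, fun h3 => hcy (by rw [h3]), h2⟩ hcje
        have hm : m ∈ D := by
          rw [hmdef', show cc j * (y * cc j * y) = (cc j * y) ^ 2 by rw [pow_two]; simp only [mul_assoc]]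
          exact h2
        have hym : y * m = m * y := by
          have h3 : Commute (cc j) (y * cc j * y) := by rw [hycc]; exact hcomm _ _
          conv_lhs => rw [hmdef', h3.eq]
          conv_rhs => rw [hmdef']
          simp only [mul_assoc, mul_self_of_mem hD hyD, mul_one]
          rw [mul_self_cancel hD hyD]
        have hmy : m * y ∈ D := by
          rw [hmdef', show cc j * (y * cc j * y) * y = cc j * y * (cc j)⁻¹ by
            rw [inv_of_mem hD (hccD j)]; simp only [mul_assoc, mul_self_of_mem hD hyD, mul_one]]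
          exact hD.conj_mem y hyD _
        have hcm : c * m = m * c := by
          rw [← hcc0]
          exact ((hcomm 0 _).mul_right (hcomm 0 _)).eq
        have h3 := hfe.symm.mul_right (hL m hm hcm hym hmy)
        rwa [show f * (m * f * m) = f * m * f * m by simp only [mul_assoc]] at h3
      have h2 : cc (-((j + 1 : ℕ) : ℤ)) * cc (j + 1 : ℕ) = cc (-(j : ℤ)) * cc j * (f * m * f * m) := by
        have h3 : f * m * f = cc (-(j : ℤ)) * cc ((j + 1 : ℕ) : ℤ) := by
          rw [hmdef, ← hfcc, show ((j + 1 : ℕ) : ℤ) = -(-(j : ℤ) - 1) by push_cast; ring, ← hfcc]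
          simp only [mul_assoc]
          rw [mul_self_cancel hD hfD]
        rw [h3, hmdef, show -((j + 1 : ℕ) : ℤ) = -(j : ℤ) - 1 by push_cast; ring]
        set A := cc (-(j : ℤ)) with hA
        set B := cc (j : ℤ) with hB
        set C := cc ((j + 1 : ℕ) : ℤ) with hC
        set E := cc (-(j : ℤ) - 1) with hE
        have hBC : Commute B C := hcomm _ _
        have hAB : Commute B A := hcomm _ _
        have hEC : Commute E C := hcomm _ _
        calc E * C = C * E := hEC.eq
          _ = A * A * (B * B) * (C * E) := by rw [hcc2, hcc2, one_mul, one_mul]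
          _ = A * (A * B) * B * C * E := by simp only [mul_assoc]
          _ = A * (B * A) * (B * C) * E := by rw [hAB.eq]; simp only [mul_assoc]
          _ = A * (B * A) * (C * B) * E := by rw [hBC.eq]
          _ = A * B * (A * C * (B * E)) := by simp only [mul_assoc]
      rw [h2]
      exact ih.mul_right h1
  -- telescope
  let Q : ℕ → G := fun k => (u ^ (k : ℤ))⁻¹ * (c * u) ^ (2 * k + 1) * (u ^ ((k : ℤ) + 1))⁻¹
  have hQ : ∀ k, ∃ R, Q k = c * R ∧ Commute e R ∧ ∀ i, Commute (cc i) R := by
    intro k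
    induction k with
    | zero =>
      refine ⟨1, ?_, Commute.one_right _, fun i => Commute.one_right _⟩
      simp [Q]
    | succ k ih =>
      obtain ⟨R, hR, heR, hcR⟩ := ih
      refine ⟨R * (cc (-((k + 1 : ℕ) : ℤ)) * cc (k + 1 : ℕ)), ?_, heR.mul_right (hp _),
        fun i => (hcR i).mul_right ((hcomm _ _).mul_right (hcomm _ _))⟩
      have h1 : Q (k + 1) = cc (-((k + 1 : ℕ) : ℤ)) * Q k * cc (k + 1 : ℕ) := by
        show (u ^ ((k + 1 : ℕ) : ℤ))⁻¹ * (c * u) ^ (2 * (k + 1) + 1) * (u ^ (((k + 1 : ℕ) : ℤ) + 1))⁻¹ =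
          u ^ (-((k + 1 : ℕ) : ℤ)) * c * (u ^ (-((k + 1 : ℕ) : ℤ)))⁻¹ *
            ((u ^ (k : ℤ))⁻¹ * (c * u) ^ (2 * k + 1) * (u ^ ((k : ℤ) + 1))⁻¹) *
            (u ^ ((k + 1 : ℕ) : ℤ) * c * (u ^ ((k + 1 : ℕ) : ℤ))⁻¹)
        have e1 : (c * u) ^ (2 * (k + 1) + 1) = c * u * (c * u) ^ (2 * k + 1) * (c * u) := by
          rw [← pow_succ', ← pow_succ]
          ring_nf
        rw [e1]
        generalize (c * u) ^ (2 * k + 1) = W
        push_cast
        group
      rw [h1, hR]
      set A := cc (-((k + 1 : ℕ) : ℤ))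
      have hAc : Commute A c := hcc0 ▸ hcomm _ 0
      have hAR : Commute A R := hcR _
      rw [← mul_assoc A c R, hAc.eq, mul_assoc c A R, hAR.eq]
      simp only [mul_assoc]
  obtain ⟨k, hk⟩ := hyf.2.2.2
  have hun : u ^ (2 * k + 1) = 1 := by rw [← hk, pow_orderOf_eq_one]
  have hcu : c * u = c * f * y := by rw [hudef, mul_assoc]
  have hpow : ∀ n : ℕ, ∃ P, (c * u) ^ n = P * u ^ n ∧ P * P = 1 ∧ ∀ i, Commute (cc i) P := by
    intro n
    induction n with
    | zero => exact ⟨1, by simp, one_mul 1, fun i => Commute.one_right _⟩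
    | succ n ih =>
      obtain ⟨P, hP1, hP2, hP3⟩ := ih
      refine ⟨P * cc n, ?_, ?_, fun i => (hP3 i).mul_right (hcomm _ _)⟩
      · rw [pow_succ, hP1]
        show P * u ^ n * (c * u) = P * (u ^ (n : ℤ) * c * (u ^ (n : ℤ))⁻¹) * u ^ (n + 1)
        rw [zpow_natCast, pow_succ]; group
      · rw [mul_assoc, ← mul_assoc (cc n) P, (hP3 n).eq, mul_assoc P (cc n), hcc2, mul_one, hP2]
  obtain ⟨P, hP1, hP2, -⟩ := hpow (2 * k + 1)
  rw [hun, mul_one] at hP1
  have hN : (c * u) ^ (2 * k + 1) = 1 := by
    rw [← orderOf_dvd_iff_pow_eq_one]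
    refine (Nat.Coprime.dvd_mul_right (n := 2) ?_).1 (orderOf_dvd_of_pow_eq_one ?_)
    · rw [hcu]; exact hodd.coprime_two_right
    · rw [pow_mul, hP1, pow_two, hP2]
  obtain ⟨R, hR, heR, -⟩ := hQ k
  have hQ1 : Q k = 1 := by
    show (u ^ (k : ℤ))⁻¹ * (c * u) ^ (2 * k + 1) * (u ^ ((k : ℤ) + 1))⁻¹ = 1
    rw [hN, mul_one, ← mul_inv_rev, ← zpow_add, show (k : ℤ) + 1 + k = ((2 * k + 1 : ℕ) : ℤ) by push_cast; ring,
      zpow_natCast, hun, inv_one]
  rw [hQ1] at hR
  have : c⁻¹ = R := inv_eq_of_mul_eq_one_right hR.symm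
  rw [inv_of_mem hD hcD] at this
  exact hne (this ▸ heR).symm.eq

theorem sameCommutingClass_eq [Finite G] (hD : IsRootInvolutionSet D)
    (hc : IsConnectedSet (OddAdj D) D) {d : G} (hd : d ∈ D) :
    sameCommutingClass D d =
      {e | e ∈ D ∧ commutingMembers D d ∪ fourPartners D d = commutingMembers D e ∪ fourPartners D e} := by
  have key : ∀ a ∈ D, commutingMembers D a ∪ fourPartners D a = D \ oddPartners D a := by
    intro a ha
    ext x
    constructor
    · rintro (⟨hx, h1⟩ | ⟨hx, h1⟩)
      · exact ⟨hx, fun h2 => not_commute_of_oddAdj hD ((mem_oddPartners_iff ha).1 h2) h1.symm⟩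
      · refine ⟨hx, fun h2 => ?_⟩
        have h3 := h2.2.2
        rw [h1] at h3
        exact absurd h3 (by decide)
    · rintro ⟨hx, h1⟩
      rcases hD.pair a ha x hx with h2 | h2 | ⟨h2, -⟩
      · exact Or.inl ⟨hx, h2.symm⟩
      · by_cases hxa : x = a
        · exact Or.inl ⟨hx, by rw [hxa]⟩
        · exact absurd ⟨hx, hxa, h2⟩ h1
      · exact Or.inr ⟨hx, h2⟩
  ext e
  constructor
  · rintro ⟨he, h⟩
    refine ⟨he, ?_⟩
    rw [key d hd, key e he, (oddPartners_subset_of_commutingMembers_eq hD hd he h).antisymm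
      (oddPartners_subset_of_commutingMembers_eq hD he hd h.symm)]
  · rintro ⟨he, h⟩
    rw [key d hd, key e he] at h
    have h1 : ∀ a : G, oddPartners D a ⊆ D := fun a x hx => hx.1
    have h2 : oddPartners D d = oddPartners D e := by
      rw [← Set.diff_diff_cancel_left (h1 d), h, Set.diff_diff_cancel_left (h1 e)]
    exact ⟨he, (commutingMembers_subset_of_oddPartners_eq hD hc hd he h2).antisymm
      (commutingMembers_subset_of_oddPartners_eq hD hc he hd h2.symm)⟩

end Cfsg.Lib.RootInvol
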